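import Mathlib
import Cfsg.Agent.Prune
set_option linter.all false
prune_inst 0x7f00000000000000000000000000000000000000000000000000000000000000000000000000000000000000000000000000000000000000000000000000000000000000000000000000000000000000003fffffffffffffffffffffffffffbeffbdffffffff
open scoped Cfsg.Agent.FastGrp

/-!
# S2499, classical families: dimensions of invariant subspaces (helper383)

* `eq_one_of_coprime` : an endomorphism of order prime to `q` and `q ^ i - 1`, `i ≤ dim V`, is trivial;
* `disjoint_of_coprime`, `exists_fix` : `V = ker (x - 1) ⊕ range (x - 1)` for `x` of order prime to `q`;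
* `le_or_le` : `x` of order prime to `q ^ i - 1`, `i < k`, with `range (x - 1)` of dimension `k`: an invariant subspace
  lies in `ker (x - 1)` or contains `range (x - 1)`;
* `dvd_of_free` : if `x` has prime order `r` and no fixed vector in `W`, the order of `q` modulo `r` divides `dim W`;
* `Dims x S` : every invariant subspace has dimension in `S`.
-/

set_option autoImplicit false
set_option linter.unusedSectionVars false

namespace Cfsg.Agent.H383.Cov

open Module

variable {F : Type*} [Field F] [Finite F] {V : Type*} [AddCommGroup V] [Module F V] [FiniteDimensional F V]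

theorem eq_one_of_coprime {x : Module.End F V} {M : ℕ} (hx : x ^ M = 1) (hq : M.Coprime (Nat.card F))
    (hM : ∀ i, 1 ≤ i → i ≤ finrank F V → M.Coprime (Nat.card F ^ i - 1)) : x = 1 := by
  have := Fintype.ofFinite F
  have hq2 : 2 ≤ Nat.card F := by
    rw [Nat.card_eq_fintype_card]; exact Fintype.one_lt_card
  have hM0 : M ≠ 0 := by
    rintro rfl
    rw [Nat.coprime_zero_left] at hq
    omega
  have hu : IsUnit x := by
    refine IsUnit.of_pow_eq_one hx hM0
  obtain ⟨u, rfl⟩ := hu
  have hu1 : u ^ M = 1 := Units.ext (by rw [Units.val_pow_eq_pow_val, hx]; rfl)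
  let b := Module.finBasis F V
  let e : (Module.End F V)ˣ ≃* (Matrix (Fin (finrank F V)) (Fin (finrank F V)) F)ˣ :=
    Units.mapEquiv (LinearMap.toMatrixAlgEquiv b).toMulEquiv
  have h1 : (e u) ^ M = 1 := by rw [← map_pow, hu1, map_one]
  have h2 : orderOf (e u) ∣ M := orderOf_dvd_of_pow_eq_one h1
  have h3 : orderOf (e u) ∣ ∏ i : Fin (finrank F V), (Fintype.card F ^ (finrank F V) - Fintype.card F ^ (i : ℕ)) := by
    rw [← Matrix.card_GL_field]
    exact orderOf_dvd_natCard _
  have h4 : M.Coprime (∏ i : Fin (finrank F V), (Fintype.card F ^ (finrank F V) - Fintype.card F ^ (i : ℕ))) := by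
    apply Nat.Coprime.prod_right
    intro i _
    have h5 : Fintype.card F ^ (finrank F V) - Fintype.card F ^ (i : ℕ) =
        Fintype.card F ^ (i : ℕ) * (Fintype.card F ^ (finrank F V - i) - 1) := by
      rw [Nat.mul_sub, mul_one, ← pow_add]
      congr 2
      omega
    rw [h5, ← Nat.card_eq_fintype_card]
    exact Nat.Coprime.mul_right (Nat.Coprime.pow_right _ hq) (hM _ (by omega) (by omega))
  have h5 := Nat.dvd_gcd h2 h3
  rw [h4] at h5
  have h6 : e u = 1 := orderOf_eq_one_iff.1 (Nat.dvd_one.1 h5)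
  have h7 : u = 1 := by
    apply e.injective
    rw [h6, map_one]
  rw [h7, Units.val_one]

/-- trivial action on small invariant subspaces -/
theorem fix_of_lt {x : Module.End F V} {M k : ℕ} (hx : x ^ M = 1) (hq : M.Coprime (Nat.card F))
    (hM : ∀ i, 1 ≤ i → i < k → M.Coprime (Nat.card F ^ i - 1)) {W : Submodule F V} (hW : ∀ w ∈ W, x w ∈ W)
    (hk : finrank F W < k) {w : V} (hw : w ∈ W) : x w = w := by
  have h1 : (x.restrict hW) ^ M = 1 := by
    apply LinearMap.ext
    intro v
    apply Subtype.ext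
    rw [Module.End.pow_restrict]
    simp [hx]
  have h2 := eq_one_of_coprime h1 hq fun i hi hi' => hM i hi (by omega)
  have h3 := congrArg (fun f : Module.End F W => ((f ⟨w, hw⟩ : W) : V)) h2
  simpa using h3

theorem coprime_ne_zero {M : ℕ} (hq : M.Coprime (Nat.card F)) : (M : F) ≠ 0 := by
  intro h
  have := Fintype.ofFinite F
  obtain ⟨p, hp⟩ := CharP.exists F
  have hpp : p.Prime := (CharP.char_is_prime_or_zero F p).resolve_right (CharP.char_ne_zero_of_finite F p)
  have h1 : p ∣ M := (CharP.cast_eq_zero_iff F p M).1 h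
  have h2 : p ∣ Nat.card F := by
    rw [← CharP.cast_eq_zero_iff F p, Nat.card_eq_fintype_card]
    exact Nat.cast_card_eq_zero F
  exact hpp.one_lt.ne' (Nat.dvd_one.1 (hq ▸ Nat.dvd_gcd h1 h2))

/-- `ker (x - 1)` and `range (x - 1)` are disjoint -/
theorem eq_zero_of_fix {x : Module.End F V} {M : ℕ} (hx : x ^ M = 1) (hq : M.Coprime (Nat.card F)) {u v : V}
    (hu : u = x v - v) (hf : x u = u) : u = 0 := by
  have h1 : ∀ i : ℕ, (x ^ i) u = u := by
    intro i
    induction i with
    | zero => simp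
    | succ i ih => rw [pow_succ', Module.End.mul_apply, ih, hf]
  have h2 : (∑ i ∈ Finset.range M, x ^ i) u = (M : F) • u := by
    rw [LinearMap.sum_apply, Finset.sum_congr rfl fun i _ => h1 i, Finset.sum_const, Finset.card_range,
      Nat.cast_smul_eq_nsmul]
  have h3 : (∑ i ∈ Finset.range M, x ^ i) u = 0 := by
    have h4 : (∑ i ∈ Finset.range M, x ^ i) * (x - 1) = x ^ M - 1 := geom_sum_mul x M
    have h5 : u = (x - 1) v := by rw [hu]; rfl
    rw [h5, ← Module.End.mul_apply, h4, hx, sub_self, LinearMap.zero_apply]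
  rw [h2] at h3
  exact (smul_eq_zero.1 h3).resolve_left (coprime_ne_zero hq)

/-- every vector is a fixed vector modulo `range (x - 1)` -/
theorem exists_fix {x : Module.End F V} {M : ℕ} (hx : x ^ M = 1) (hq : M.Coprime (Nat.card F)) (v : V) :
    ∃ w u : V, x w = w ∧ v = w + (x u - u) := by
  have hM := coprime_ne_zero (F := F) hq
  set s : Module.End F V := ∑ i ∈ Finset.range M, x ^ i with hs
  have h1 : x * s = s := by
    have h4 : (x - 1) * s = x ^ M - 1 := mul_geom_sum x M
    rw [hx, sub_self, sub_mul, one_mul] at h4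
    exact sub_eq_zero.1 h4
  obtain ⟨t, ht⟩ : ∃ t : Module.End F V, (M : Module.End F V) - s = (x - 1) * t := by
    have h5 : ∀ i : ℕ, ∃ t : Module.End F V, 1 - x ^ i = (x - 1) * t := by
      intro i
      refine ⟨-∑ j ∈ Finset.range i, x ^ j, ?_⟩
      rw [mul_neg, mul_geom_sum, neg_sub]
    choose t ht using h5
    refine ⟨∑ i ∈ Finset.range M, t i, ?_⟩
    rw [Finset.mul_sum, ← Finset.sum_congr rfl fun i _ => ht i, Finset.sum_sub_distrib, Finset.sum_const,
      Finset.card_range, nsmul_eq_mul, mul_one]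
  refine ⟨(M : F)⁻¹ • s v, (M : F)⁻¹ • t v, ?_, ?_⟩
  · rw [map_smul, ← Module.End.mul_apply, h1]
  · have h6 : s v + (x - 1) (t v) = (M : F) • v := by
      rw [← Module.End.mul_apply, ← ht, LinearMap.sub_apply, add_sub_cancel]
      rw [Module.End.natCast_apply, Nat.cast_smul_eq_nsmul]
    have h7 : x ((M : F)⁻¹ • t v) - (M : F)⁻¹ • t v = (M : F)⁻¹ • (x - 1) (t v) := by
      rw [map_smul, ← smul_sub]; rfl
    rw [h7, ← smul_add, h6, smul_smul, inv_mul_cancel₀ hM, one_smul]

theorem finrank_add {x : Module.End F V} : finrank F (LinearMap.range (x - 1)) + finrank F (LinearMap.ker (x - 1)) =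
    finrank F V := LinearMap.finrank_range_add_finrank_ker _

/-- `x` of order prime to `q ^ i - 1`, `i < k`, with `range (x - 1)` of dimension `k` -/
theorem le_or_le {x : Module.End F V} {M k : ℕ} (hx : x ^ M = 1) (hq : M.Coprime (Nat.card F))
    (hM : ∀ i, 1 ≤ i → i < k → M.Coprime (Nat.card F ^ i - 1)) (hk : finrank F (LinearMap.range (x - 1)) = k)
    {W : Submodule F V} (hW : ∀ w ∈ W, x w ∈ W) :
    W ≤ LinearMap.ker (x - 1) ∨ LinearMap.range (x - 1) ≤ W := by
  by_cases h : finrank F (W ⊓ LinearMap.range (x - 1) : Submodule F V) < k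
  · left
    intro w hw
    have hinv : ∀ u ∈ W ⊓ LinearMap.range (x - 1), x u ∈ W ⊓ LinearMap.range (x - 1) := by
      rintro u ⟨h1, v, rfl⟩
      refine ⟨hW _ h1, x v, ?_⟩
      rw [← Module.End.mul_apply, ← Module.End.mul_apply, sub_mul, mul_sub, one_mul, mul_one]
    have hmem : (x - 1) w ∈ W ⊓ LinearMap.range (x - 1) :=
      ⟨W.sub_mem (hW w hw) hw, w, rfl⟩
    rw [LinearMap.mem_ker]
    exact eq_zero_of_fix hx hq (v := w) rfl (fix_of_lt hx hq hM hinv h hmem)
  · right
    have h1 : W ⊓ LinearMap.range (x - 1) = LinearMap.range (x - 1) := by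
      apply Submodule.eq_of_le_of_finrank_le inf_le_right
      omega
    rw [← h1]
    exact inf_le_left

theorem finrank_cases {x : Module.End F V} {M k : ℕ} (hx : x ^ M = 1) (hq : M.Coprime (Nat.card F))
    (hM : ∀ i, 1 ≤ i → i < k → M.Coprime (Nat.card F ^ i - 1)) (hk : finrank F (LinearMap.range (x - 1)) = k)
    {W : Submodule F V} (hW : ∀ w ∈ W, x w ∈ W) : finrank F W + k ≤ finrank F V ∨ k ≤ finrank F W := by
  rcases le_or_le hx hq hM hk hW with h | h
  · left
    have h1 := Submodule.finrank_mono h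
    have h2 := finrank_add (x := x)
    omega
  · right
    rw [← hk]
    exact Submodule.finrank_mono h

/-- the order of `q` modulo `r` divides `d` when `r ∣ q ^ d - 1` -/
theorem dvd_of_dvd_pow_sub {q r c d : ℕ} (hc : 1 ≤ c) (h1 : r ∣ q ^ c - 1)
    (h2 : ∀ i, 1 ≤ i → i < c → ¬ r ∣ q ^ i - 1) (hd : r ∣ q ^ d - 1) : c ∣ d := by
  have h3 : r ∣ q ^ (Nat.gcd c d) - 1 := by
    rw [← Nat.pow_sub_one_gcd_pow_sub_one]
    exact Nat.dvd_gcd h1 hd
  have h4 : Nat.gcd c d ≤ c := Nat.gcd_le_left _ hc
  have h5 : 0 < Nat.gcd c d := Nat.gcd_pos_of_pos_left _ hc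
  have h6 : ¬ Nat.gcd c d < c := fun h => h2 _ h5 h h3
  have h7 : Nat.gcd c d = c := by omega
  rw [← h7]
  exact Nat.gcd_dvd_right _ _

/-- an element of prime order `r` without fixed vector -/
theorem dvd_of_free {x : Module.End F V} {r c : ℕ} (hr : r.Prime) (hx : x ^ r = 1) (hc : 1 ≤ c)
    (h1 : r ∣ Nat.card F ^ c - 1) (h2 : ∀ i, 1 ≤ i → i < c → ¬ r ∣ Nat.card F ^ i - 1)
    {W : Submodule F V} (hW : ∀ w ∈ W, x w ∈ W) (hfr : ∀ w ∈ W, x w = w → w = 0) : c ∣ finrank F W := by
  classical
  have := Fintype.ofFinite F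
  have hfin : Finite W := Module.finite_of_finite F
  have := Fintype.ofFinite W
  have : Fact r.Prime := ⟨hr⟩
  let f : Function.End W := fun w => ⟨x w, hW w w.2⟩
  have hf : ∀ i (w : W), (((f ^ i) w : W) : V) = (x ^ i) w := by
    intro i
    induction i with
    | zero => intro w; rfl
    | succ i ih =>
      intro w
      rw [pow_succ', pow_succ']
      change x ((f ^ i) w : W) = x ((x ^ i) w)
      rw [ih]
  have hf1 : f ^ r ^ 1 = 1 := by
    funext w
    apply Subtype.ext
    rw [pow_one, hf, hx]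
    rfl
  have h3 := Equiv.Perm.card_fixedPoints_modEq hf1
  have h4 : Fintype.card (Function.fixedPoints f) = 1 := by
    rw [Fintype.card_eq_one_iff]
    refine ⟨⟨0, Subtype.ext (by change x 0 = 0; exact map_zero x)⟩, fun w => Subtype.ext (Subtype.ext ?_)⟩
    exact hfr _ w.1.2 (congrArg Subtype.val w.2)
  rw [h4, ← Nat.card_eq_fintype_card, Module.natCard_eq_pow_finrank (K := F)] at h3
  apply dvd_of_dvd_pow_sub hc h1 h2
  exact (Nat.modEq_iff_dvd' (Nat.one_le_pow _ _ Nat.card_pos)).1 h3.symm

end Cfsg.Agent.H383.Cov
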