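import Cfsg.Prelude.Def_GeometricClasses
import Cfsg.Agent.H278.Cov.Defs
import Cfsg.Agent.H907.FieldSub
import Cfsg.Agent.H383.Cov.Inv
import Cfsg.Agent.H929.SimU
import Cfsg.Agent.H925.OrthBasic
import Cfsg.Agent.LieRecognition.FieldSemilinear
import Cfsg.Agent.Prune
set_option linter.all false

section
prune_inst 0x7fffa9fbfbffffffffff7e77fefcddfc3b931fffa6dffd4bffee69df2bdfa39e0dcda7ad89e022fe1ff7423418a8f843ffffffffea6ffc7ffffdfff45ffbee5ff7ffbd08519e8cb40fbc0ffff3f07f8e7f3fffffffffffffffffffffffffffbeffbfffffffff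

-- part: H278/Cov/ClDefs
section
set_option linter.all false

/-!
# S2499: vocabulary for the rows of the classical groups of dimension at least 10
-/

set_option autoImplicit false

namespace Cfsg.Agent.H278.Cov

open Cfsg Cfsg.Geo
open scoped MatrixGroups

universe u

/-- the numerical hypotheses on the order `m` of an element of the primitive part of `q ^ k - 1` in dimension `n`
(`S5948`), together with a prime divisor `l` which excludes subfield groups -/
structure Num (q n k m : ℕ) : Prop where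
  ten : 10 ≤ n
  le : k ≤ n
  lt : n < 2 * k
  big : 2 * k + 1 < m
  dvd : m ∣ q ^ k - 1
  prim : ∀ i : ℕ, 1 ≤ i → i < k → Nat.Coprime m (q ^ i - 1)
  sub : ∃ l : ℕ, l.Prime ∧ l ∣ m ∧
    ∀ q₀ r : ℕ, r.Prime → q = q₀ ^ r → ∀ j : ℕ, 1 ≤ j → j ≤ n → ¬ l ∣ q₀ ^ j - 1

variable {ι : Type} [Fintype ι] [DecidableEq ι] {F : Type u} [Field F]

/-- `H` stabilises a proper non-zero subspace -/
def Red (H : Subgroup (GL ι F)) : Prop :=
  ∃ W : Submodule F (ι → F), W ≠ ⊥ ∧ W ≠ ⊤ ∧ H ≤ subspaceStabilizer W

/-- `H` normalises a field of matrices of prime degree `r` dividing `d` -/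
def Ext (d : ℕ) (H : Subgroup (GL ι F)) : Prop :=
  ∃ (r : ℕ) (E : Subalgebra F (Matrix ι ι F)), r.Prime ∧ r ∣ d ∧ IsFieldSubalgebra r E ∧ H ≤ subalgebraNormalizer E

end Cfsg.Agent.H278.Cov
end

-- part: H383/Cov/Parity
section
prune_inst 0x180000000000000000009000000000000008000000000025000001000000000800000000000000000000000000000000000000000000000000400002000104260000000000000000000000000000000000000000000000000000000
set_option linter.all false
open scoped Cfsg.Agent.FastGrp

-- part: H383/Cov/Field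
section
/-!
# S2499, families of orthogonal groups: fields of matrices (helper383)

* `comm_of_coprime` : an element of order prime to `r` normalising a field of matrices of degree `r` centralises it;
* `dvd_finrank` : the dimension of an `E`-invariant subspace is divisible by `r`;
* `dvd_ker` : so is the dimension of the kernel of every matrix commuting with `E`.
-/

set_option autoImplicit false
set_option linter.unusedSectionVars false

namespace Cfsg.Agent.H383.Cov

open Cfsg Cfsg.Geo Module
open Cfsg.Agent.H907 (isField_of card_K)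
open scoped MatrixGroups Matrix

variable {ι : Type} [Fintype ι] [DecidableEq ι] {F : Type*} [Field F] {r : ℕ} {E : Subalgebra F (Matrix ι ι F)}

/-- conjugation as an algebra automorphism -/
def conjAlg {g : GL ι F} (hg : g ∈ subalgebraNormalizer E) : E ≃ₐ[F] E where
  toFun k := ⟨(g : Matrix ι ι F) * k * ((g⁻¹ : GL ι F) : Matrix ι ι F), (hg k).1 k.2⟩
  invFun k := ⟨((g⁻¹ : GL ι F) : Matrix ι ι F) * k * (g : Matrix ι ι F), by
    have := ((subalgebraNormalizer E).inv_mem hg k).1 k.2
    rwa [inv_inv] at this⟩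
  left_inv k := by
    apply Subtype.ext
    change ((g⁻¹ : GL ι F) : Matrix ι ι F) * ((g : Matrix ι ι F) * k * ((g⁻¹ : GL ι F) : Matrix ι ι F)) *
      (g : Matrix ι ι F) = k
    rw [mul_assoc (g : Matrix ι ι F), ← mul_assoc, ← Units.val_mul, inv_mul_cancel, Units.val_one, one_mul, mul_assoc,
      ← Units.val_mul, inv_mul_cancel, Units.val_one, mul_one]
  right_inv k := by
    apply Subtype.ext
    change (g : Matrix ι ι F) * (((g⁻¹ : GL ι F) : Matrix ι ι F) * k * (g : Matrix ι ι F)) *
      ((g⁻¹ : GL ι F) : Matrix ι ι F) = k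
    rw [mul_assoc ((g⁻¹ : GL ι F) : Matrix ι ι F), ← mul_assoc, ← Units.val_mul, mul_inv_cancel, Units.val_one, one_mul,
      mul_assoc, ← Units.val_mul, mul_inv_cancel, Units.val_one, mul_one]
  map_mul' a b := by
    apply Subtype.ext
    change (g : Matrix ι ι F) * ((a : Matrix ι ι F) * b) * ((g⁻¹ : GL ι F) : Matrix ι ι F) =
      ((g : Matrix ι ι F) * a * ((g⁻¹ : GL ι F) : Matrix ι ι F)) *
        ((g : Matrix ι ι F) * b * ((g⁻¹ : GL ι F) : Matrix ι ι F))
    have h : ((g⁻¹ : GL ι F) : Matrix ι ι F) * (g : Matrix ι ι F) = 1 := by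
      rw [← Units.val_mul, inv_mul_cancel, Units.val_one]
    calc _ = (g : Matrix ι ι F) * a * 1 * b * ((g⁻¹ : GL ι F) : Matrix ι ι F) := by
          simp only [mul_one, mul_assoc]
      _ = _ := by rw [← h]; simp only [mul_assoc]
  map_add' a b := by
    apply Subtype.ext
    change (g : Matrix ι ι F) * ((a : Matrix ι ι F) + b) * ((g⁻¹ : GL ι F) : Matrix ι ι F) =
      (g : Matrix ι ι F) * a * ((g⁻¹ : GL ι F) : Matrix ι ι F) +
        (g : Matrix ι ι F) * b * ((g⁻¹ : GL ι F) : Matrix ι ι F)
    rw [mul_add, add_mul]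
  commutes' c := by
    apply Subtype.ext
    change (g : Matrix ι ι F) * (algebraMap F (Matrix ι ι F) c) * ((g⁻¹ : GL ι F) : Matrix ι ι F) =
      algebraMap F (Matrix ι ι F) c
    rw [← Algebra.commutes, mul_assoc, ← Units.val_mul, mul_inv_cancel, Units.val_one, mul_one]

theorem conjAlg_val {g : GL ι F} (hg : g ∈ subalgebraNormalizer E) (k : E) :
    ((conjAlg hg k : E) : Matrix ι ι F) = (g : Matrix ι ι F) * k * ((g⁻¹ : GL ι F) : Matrix ι ι F) := rfl

theorem conjAlg_pow {g : GL ι F} (hg : g ∈ subalgebraNormalizer E) (n : ℕ) (k : E) :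
    (((conjAlg hg ^ n) k : E) : Matrix ι ι F) =
      ((g ^ n : GL ι F) : Matrix ι ι F) * k * (((g ^ n)⁻¹ : GL ι F) : Matrix ι ι F) := by
  induction n with
  | zero =>
    rw [pow_zero, pow_zero, AlgEquiv.one_apply, inv_one, Units.val_one, one_mul, mul_one]
  | succ n ih =>
    rw [pow_succ', AlgEquiv.mul_apply, conjAlg_val, ih, pow_succ', _root_.mul_inv_rev, Units.val_mul, Units.val_mul]
    simp only [mul_assoc]

/-- an element of order prime to `r` normalising a field of matrices of degree `r` centralises it -/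
theorem comm_of_coprime [Finite F] [Nonempty ι] (hE : IsFieldSubalgebra r E) {g : GL ι F}
    (hg : g ∈ subalgebraNormalizer E) (hco : (orderOf g).Coprime r) {e : Matrix ι ι F} (he : e ∈ E) :
    (g : Matrix ι ι F) * e = e * g := by
  let _ := (isField_of hE).toField
  have : Finite E := inferInstance
  have h1 : Nat.card (E ≃ₐ[F] E) = r := by
    rw [IsGalois.card_aut_eq_finrank, hE.finrank_eq]
  have h2 : (conjAlg hg) ^ r = 1 := by
    rw [← h1]; exact pow_card_eq_one'
  have h3 : (conjAlg hg) ^ orderOf g = 1 := by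
    apply AlgEquiv.ext
    intro k
    apply Subtype.ext
    rw [conjAlg_pow, pow_orderOf_eq_one, inv_one, Units.val_one, one_mul, mul_one, AlgEquiv.one_apply]
  have h4 : conjAlg hg = 1 := by
    have h5 := Nat.dvd_gcd (orderOf_dvd_of_pow_eq_one h3) (orderOf_dvd_of_pow_eq_one h2)
    rw [hco] at h5
    exact orderOf_eq_one_iff.1 (Nat.dvd_one.1 h5)
  have h6 := conjAlg_val hg ⟨e, he⟩
  rw [h4, AlgEquiv.one_apply] at h6
  calc (g : Matrix ι ι F) * e = (g : Matrix ι ι F) * e * (((g⁻¹ : GL ι F) : Matrix ι ι F) * g) := by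
        rw [← Units.val_mul, inv_mul_cancel, Units.val_one, mul_one]
    _ = e * g := by rw [← mul_assoc]; exact congrArg (· * (g : Matrix ι ι F)) h6.symm

/-- the dimension of an `E`-invariant subspace is divisible by `r` -/
theorem dvd_finrank [Nonempty ι] (hE : IsFieldSubalgebra r E) (W : Submodule F (ι → F))
    (hW : ∀ e ∈ E, ∀ w ∈ W, e *ᵥ w ∈ W) : r ∣ finrank F W := by
  let _ : Field E := (isField_of hE).toField
  let W' : Submodule E (ι → F) :=
    { carrier := W
      add_mem' := fun ha hb => W.add_mem ha hb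
      zero_mem' := W.zero_mem
      smul_mem' := fun c w hw => hW c c.2 w hw }
  have hfree : (Module.Free E W' :) := Module.Free.of_divisionRing E W'
  have h1 := Module.finrank_mul_finrank F E W'
  rw [hE.finrank_eq] at h1
  have h2 : finrank F W' = finrank F W := by
    exact LinearEquiv.finrank_eq
      { toFun := fun w => ⟨w.1, w.2⟩
        invFun := fun w => ⟨w.1, w.2⟩
        map_add' := fun _ _ => rfl
        map_smul' := fun _ _ => rfl
        left_inv := fun _ => rfl
        right_inv := fun _ => rfl }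
  rw [← h2, ← h1]
  exact dvd_mul_right _ _

/-- the dimension of the kernel of a matrix commuting with `E` is divisible by `r` -/
theorem dvd_ker [Nonempty ι] (hE : IsFieldSubalgebra r E) {x : Matrix ι ι F} (hx : ∀ e ∈ E, x * e = e * x) :
    r ∣ finrank F (LinearMap.ker (Matrix.toLin' x)) := by
  apply dvd_finrank hE
  intro e he w hw
  rw [LinearMap.mem_ker, Matrix.toLin'_apply] at hw ⊢
  rw [Matrix.mulVec_mulVec, hx e he, ← Matrix.mulVec_mulVec, hw, Matrix.mulVec_zero]

theorem dvd_range [Nonempty ι] (hE : IsFieldSubalgebra r E) {x : Matrix ι ι F} (hx : ∀ e ∈ E, x * e = e * x) :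
    r ∣ finrank F (LinearMap.range (Matrix.toLin' x)) := by
  apply dvd_finrank hE
  rintro e he _ ⟨v, rfl⟩
  refine ⟨e *ᵥ v, ?_⟩
  rw [Matrix.toLin'_apply, Matrix.toLin'_apply, Matrix.mulVec_mulVec, Matrix.mulVec_mulVec, hx e he]

/-- a matrix commuting with `t` commutes with polynomials in `t` -/
theorem comm_aeval {t e : Matrix ι ι F} (h : t * e = e * t) (P : Polynomial F) :
    Polynomial.aeval t P * e = e * Polynomial.aeval t P := by
  induction P using Polynomial.induction_on' with
  | add p q hp hq => rw [map_add, add_mul, mul_add, hp, hq]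
  | monomial n a =>
    rw [Polynomial.aeval_monomial]
    have h1 : t ^ n * e = e * t ^ n := (Commute.pow_left (show Commute t e from h) n).eq
    rw [mul_assoc, h1, ← mul_assoc, Algebra.commutes, mul_assoc]

/-- **E-kill**: if `t` normalises a field of degree `r` prime to the order of `t`, then `r` divides the dimension of the
kernel of every polynomial in `t` -/
theorem kill [Finite F] [Nonempty ι] (hE : IsFieldSubalgebra r E) {t : GL ι F}
    (ht : t ∈ subalgebraNormalizer E) (hco : (orderOf t).Coprime r) (P : Polynomial F) :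
    r ∣ finrank F (LinearMap.ker (Matrix.toLin' (Polynomial.aeval (t : Matrix ι ι F) P))) :=
  dvd_ker hE fun _ he => comm_aeval (comm_of_coprime hE ht hco he) P

end Cfsg.Agent.H383.Cov
end

-- part: H383/Cov/Parity
section
/-!
# S2499, orthogonal families: the parity lemma (helper383)

`H` an irreducible group of isometries normalising a field `E` of matrices of degree 2.  If `H` contains an element `x` of
odd order dividing `q ^ a + 1` with `range (x - 1)` of dimension `2 a` (irreducible), then
`b (e u, v) = b (u, e ^ (q ^ a) v)` for all `e ∈ E` (`adj_of_mem`).  So `H` cannot contain two such elements for numbers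
`a` even, `b` odd (`parity`).
-/

set_option autoImplicit false
set_option linter.unusedSectionVars false

namespace Cfsg.Agent.H383.Cov

open Cfsg Cfsg.Geo Module
open Cfsg.Agent.H907 (isField_of card_K)
open Cfsg.Agent.H278.Cov (Red Ext Num)
open scoped MatrixGroups Matrix

universe u

variable {ι : Type} [Fintype ι] [DecidableEq ι] {F : Type u} [Field F] [Finite F]

/-- the element `x` has order `M` prime to `q`, `q ^ i - 1` (`i < k`), and `range (x - 1)` has dimension `k` -/
structure Blk (k : ℕ) (x : GL ι F) : Prop where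
  copq : (orderOf x).Coprime (Nat.card F)
  cop : ∀ i, 1 ≤ i → i < k → (orderOf x).Coprime (Nat.card F ^ i - 1)
  rk : finrank F (LinearMap.range (Matrix.toLin' (x : Matrix ι ι F) - 1)) = k

theorem toLin_pow (x : GL ι F) (n : ℕ) : Matrix.toLin' (x : Matrix ι ι F) ^ n = Matrix.toLin' ((x ^ n : GL ι F) : Matrix ι ι F) := by
  rw [Units.val_pow_eq_pow_val, Matrix.toLin'_pow]

theorem toLin_pow_orderOf (x : GL ι F) : Matrix.toLin' (x : Matrix ι ι F) ^ orderOf x = 1 := by
  rw [toLin_pow, pow_orderOf_eq_one, Units.val_one, Matrix.toLin'_one]; rfl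

theorem toLin_conj (g x : GL ι F) : Matrix.toLin' ((g * x * g⁻¹ : GL ι F) : Matrix ι ι F) =
    (Matrix.toLin' (g : Matrix ι ι F)) * Matrix.toLin' (x : Matrix ι ι F) *
      Matrix.toLin' ((g⁻¹ : GL ι F) : Matrix ι ι F) := by
  rw [Units.val_mul, Units.val_mul, Matrix.toLin'_mul, Matrix.toLin'_mul]
  rfl

/-- conjugation by an element of `GL` as a linear equivalence -/
def eqv (g : GL ι F) : (ι → F) ≃ₗ[F] (ι → F) where
  toFun := Matrix.toLin' (g : Matrix ι ι F)
  map_add' := map_add _
  map_smul' := map_smul _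
  invFun := Matrix.toLin' ((g⁻¹ : GL ι F) : Matrix ι ι F)
  left_inv v := by
    rw [Matrix.toLin'_apply, Matrix.toLin'_apply, Matrix.mulVec_mulVec, ← Units.val_mul, inv_mul_cancel, Units.val_one,
      Matrix.one_mulVec]
  right_inv v := by
    rw [Matrix.toLin'_apply, Matrix.toLin'_apply, Matrix.mulVec_mulVec, ← Units.val_mul, mul_inv_cancel, Units.val_one,
      Matrix.one_mulVec]

theorem eqv_symm_apply (g : GL ι F) (v : ι → F) : (eqv g).symm v = ((g⁻¹ : GL ι F) : Matrix ι ι F) *ᵥ v := rfl

theorem orderOf_conj (g x : GL ι F) : orderOf (g * x * g⁻¹) = orderOf x :=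
  orderOf_injective (MulAut.conj g).toMonoidHom (MulAut.conj g).injective x

theorem Blk.conj {k : ℕ} {x : GL ι F} (h : Blk k x) (g : GL ι F) : Blk k (g * x * g⁻¹) := by
  refine ⟨by rw [orderOf_conj]; exact h.copq, fun i hi hk => by rw [orderOf_conj]; exact h.cop i hi hk, ?_⟩
  rw [← h.rk, toLin_conj]
  have h1 : LinearMap.range (Matrix.toLin' (g : Matrix ι ι F) * Matrix.toLin' (x : Matrix ι ι F) *
      Matrix.toLin' ((g⁻¹ : GL ι F) : Matrix ι ι F) - 1) =
      (LinearMap.range (Matrix.toLin' (x : Matrix ι ι F) - 1)).map (eqv g : (ι → F) →ₗ[F] (ι → F)) := by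
    have h2 : Matrix.toLin' (g : Matrix ι ι F) * Matrix.toLin' (x : Matrix ι ι F) *
      Matrix.toLin' ((g⁻¹ : GL ι F) : Matrix ι ι F) - 1 =
        (eqv g : (ι → F) →ₗ[F] (ι → F)) ∘ₗ (Matrix.toLin' (x : Matrix ι ι F) - 1) ∘ₗ
          ((eqv g).symm : (ι → F) →ₗ[F] (ι → F)) := by
      apply LinearMap.ext
      intro v
      change (g : Matrix ι ι F) *ᵥ ((x : Matrix ι ι F) *ᵥ (((g⁻¹ : GL ι F) : Matrix ι ι F) *ᵥ v)) - v =
        (g : Matrix ι ι F) *ᵥ ((x : Matrix ι ι F) *ᵥ (((g⁻¹ : GL ι F) : Matrix ι ι F) *ᵥ v) -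
          (((g⁻¹ : GL ι F) : Matrix ι ι F) *ᵥ v))
      rw [Matrix.mulVec_sub]
      congr 1
      rw [Matrix.mulVec_mulVec, ← Units.val_mul, mul_inv_cancel, Units.val_one, Matrix.one_mulVec]
    rw [h2, LinearMap.range_comp, LinearMap.range_comp, LinearEquiv.range, Submodule.map_top]
  rw [h1]
  exact LinearEquiv.finrank_map_eq (eqv g) _

/-- invariant subspaces of a block element -/
theorem Blk.le_or_le {k : ℕ} {x : GL ι F} (h : Blk k x) {W : Submodule F (ι → F)}
    (hW : ∀ w ∈ W, (x : Matrix ι ι F) *ᵥ w ∈ W) :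
    W ≤ LinearMap.ker (Matrix.toLin' (x : Matrix ι ι F) - 1) ∨ LinearMap.range (Matrix.toLin' (x : Matrix ι ι F) - 1) ≤ W :=
  Cov.le_or_le (toLin_pow_orderOf x) h.copq h.cop h.rk hW

theorem Blk.finrank_cases {k : ℕ} {x : GL ι F} (h : Blk k x) {W : Submodule F (ι → F)}
    (hW : ∀ w ∈ W, (x : Matrix ι ι F) *ᵥ w ∈ W) : finrank F W + k ≤ Fintype.card ι ∨ k ≤ finrank F W := by
  have h1 := Cov.finrank_cases (toLin_pow_orderOf x) h.copq h.cop h.rk hW
  rwa [Module.finrank_fintype_fun_eq_card] at h1

section adj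

variable {Q : (ι → F) → F}

theorem polar_isom {x : GL ι F} (hx : x ∈ isometryGroup F Q) (u v : ι → F) :
    QuadraticMap.polar Q ((x : Matrix ι ι F) *ᵥ u) ((x : Matrix ι ι F) *ᵥ v) = QuadraticMap.polar Q u v := by
  have h : ∀ v, Q ((x : Matrix ι ι F) *ᵥ v) = Q v := fun v => hx v v
  rw [QuadraticMap.polar, QuadraticMap.polar, ← Matrix.mulVec_add, h, h, h]

theorem polar_zero_left (hQ : IsNondegenerateQuadraticForm Q) (v : ι → F) : QuadraticMap.polar Q 0 v = 0 := by
  have h := hQ.polar_bilinear.smul_left 0 0 v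
  rwa [zero_smul, zero_mul] at h

theorem polar_zero_right (hQ : IsNondegenerateQuadraticForm Q) (v : ι → F) : QuadraticMap.polar Q v 0 = 0 := by
  have h := hQ.polar_bilinear.smul_right 0 v 0
  rwa [zero_smul, zero_mul] at h

theorem polar_sub_left (hQ : IsNondegenerateQuadraticForm Q) (u w v : ι → F) :
    QuadraticMap.polar Q (u - w) v = QuadraticMap.polar Q u v - QuadraticMap.polar Q w v := by
  have h := hQ.polar_bilinear.add_left (u - w) w v
  rw [sub_add_cancel] at h
  rw [h, add_sub_cancel_right]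

/-- the adjoint of a polynomial in `x` -/
theorem polar_aeval (hQ : IsNondegenerateQuadraticForm Q) {x : GL ι F} (hx : x ∈ isometryGroup F Q)
    (f : Polynomial F) (u v : ι → F) :
    QuadraticMap.polar Q (Polynomial.aeval (x : Matrix ι ι F) f *ᵥ u) v =
      QuadraticMap.polar Q u (Polynomial.aeval ((x⁻¹ : GL ι F) : Matrix ι ι F) f *ᵥ v) := by
  induction f using Polynomial.induction_on' with
  | add p r hp hr =>
    rw [map_add, map_add, Matrix.add_mulVec, Matrix.add_mulVec, hQ.polar_bilinear.add_left,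
      hQ.polar_bilinear.add_right, hp, hr]
  | monomial n a =>
    have h1 : ∀ y : Matrix ι ι F, Polynomial.aeval y (Polynomial.monomial n a) = a • y ^ n := by
      intro y
      rw [Polynomial.aeval_monomial, Algebra.smul_def]
    rw [h1, h1, Matrix.smul_mulVec, Matrix.smul_mulVec, hQ.polar_bilinear.smul_left, hQ.polar_bilinear.smul_right]
    congr 1
    rw [← Units.val_pow_eq_pow_val, ← Units.val_pow_eq_pow_val]
    have h2 := polar_isom ((isometryGroup F Q).pow_mem hx n) u (((x⁻¹ ^ n : GL ι F) : Matrix ι ι F) *ᵥ v)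
    rw [Matrix.mulVec_mulVec, ← Units.val_mul, inv_pow, mul_inv_cancel, Units.val_one, Matrix.one_mulVec] at h2
    rw [h2, inv_pow]

/-- evaluation at `x ^ (q ^ a)` -/
theorem aeval_pow (x : Matrix ι ι F) (a : ℕ) (f : Polynomial F) :
    Polynomial.aeval (x ^ (Nat.card F ^ a)) f = (Polynomial.aeval x f) ^ (Nat.card F ^ a) := by
  have := Fintype.ofFinite F
  rw [Nat.card_eq_fintype_card]
  induction a generalizing f with
  | zero => rw [pow_zero, pow_one, pow_one]
  | succ a ih =>
    rw [pow_succ, pow_mul, pow_mul, ← ih]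
    rw [← Polynomial.expand_aeval, FiniteField.expand_card, map_pow]

/-- **The adjoint lemma.** -/
theorem adj_of_mem [Nonempty ι] (hQ : IsNondegenerateQuadraticForm Q) {H : Subgroup (GL ι F)}
    (hH : H ≤ isometryGroup F Q) (hirr : ¬ Red H) {E : Subalgebra F (Matrix ι ι F)} (hE : IsFieldSubalgebra 2 E)
    (hN : H ≤ subalgebraNormalizer E) {x : GL ι F} (hx : x ∈ H) {a : ℕ} (ha : 1 ≤ a) (hodd : Odd (orderOf x))
    (hM : orderOf x ∣ Nat.card F ^ a + 1) (hb : Blk (2 * a) x) {e : Matrix ι ι F} (he : e ∈ E) (u v : ι → F) :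
    QuadraticMap.polar Q (e *ᵥ u) v = QuadraticMap.polar Q u ((e ^ (Nat.card F ^ a)) *ᵥ v) := by
  have hxQ := hH hx
  have hcomm : ∀ e ∈ E, (x : Matrix ι ι F) * e = e * x := fun e he =>
    comm_of_coprime hE (hN hx) (Nat.coprime_two_right.2 hodd) he
  set X : Matrix ι ι F := (x : Matrix ι ι F) with hX
  have hXM : Matrix.toLin' X ^ orderOf x = 1 := toLin_pow_orderOf x
  -- `E` preserves `range (x - 1)` and `ker (x - 1)`
  set R : Submodule F (ι → F) := LinearMap.range (Matrix.toLin' X - 1) with hR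
  have memR : ∀ w, w ∈ R ↔ ∃ z, X *ᵥ z - z = w := by
    intro w
    rw [hR, LinearMap.mem_range]
    rfl
  have hER : ∀ e ∈ E, ∀ w ∈ R, e *ᵥ w ∈ R := by
    intro e he w hw
    obtain ⟨z, rfl⟩ := (memR w).1 hw
    refine (memR _).2 ⟨e *ᵥ z, ?_⟩
    rw [Matrix.mulVec_sub, Matrix.mulVec_mulVec, Matrix.mulVec_mulVec, hcomm e he]
  have hEfix : ∀ e ∈ E, ∀ w, X *ᵥ w = w → X *ᵥ (e *ᵥ w) = e *ᵥ w := by
    intro e he w hw
    rw [Matrix.mulVec_mulVec, hcomm e he, ← Matrix.mulVec_mulVec, hw]
  have horth : ∀ w, X *ᵥ w = w → ∀ z ∈ R, QuadraticMap.polar Q z w = 0 := by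
    intro w hw z hz
    obtain ⟨z, rfl⟩ := (memR z).1 hz
    rw [polar_sub_left hQ]
    nth_rewrite 1 [← hw]
    rw [polar_isom hxQ, sub_self]
  -- a nonzero vector of `R`
  obtain ⟨v₀, hv₀, hv₀0⟩ : ∃ v₀ ∈ R, v₀ ≠ 0 := by
    by_contra hcon
    push Not at hcon
    have h1 : R = ⊥ := by rw [Submodule.eq_bot_iff]; exact hcon
    have h2 := hb.rk
    rw [← hX, ← hR, h1, finrank_bot] at h2
    omega
  have hcyc : ∀ w ∈ R, ∃ f : Polynomial F, w = Polynomial.aeval X f *ᵥ v₀ := by
    let C : Submodule F (ι → F) := LinearMap.range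
      ({ toFun := fun f : Polynomial F => Polynomial.aeval X f *ᵥ v₀
         map_add' := fun f g => by rw [map_add, Matrix.add_mulVec]
         map_smul' := fun c f => by rw [map_smul, Matrix.smul_mulVec, RingHom.id_apply] } :
        Polynomial F →ₗ[F] (ι → F))
    have hCinv : ∀ w ∈ C, X *ᵥ w ∈ C := by
      rintro _ ⟨f, rfl⟩
      refine ⟨Polynomial.X * f, ?_⟩
      change Polynomial.aeval X (Polynomial.X * f) *ᵥ v₀ = X *ᵥ (Polynomial.aeval X f *ᵥ v₀)
      rw [map_mul, Polynomial.aeval_X, Matrix.mulVec_mulVec]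
    rcases hb.le_or_le hCinv with h | h
    · exfalso
      apply hv₀0
      have h1 : v₀ ∈ C := ⟨1, by
        change Polynomial.aeval X 1 *ᵥ v₀ = v₀
        rw [map_one, Matrix.one_mulVec]⟩
      have h2 := h h1
      rw [LinearMap.mem_ker] at h2
      obtain ⟨z, hz⟩ := (memR v₀).1 hv₀
      exact eq_zero_of_fix hXM hb.copq (v := z) hz.symm (sub_eq_zero.1 h2)
    · intro w hw
      obtain ⟨f, hf⟩ := h hw
      exact ⟨f, hf.symm⟩
  have hinv : ((x⁻¹ : GL ι F) : Matrix ι ι F) = X ^ (Nat.card F ^ a) := by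
    rw [hX, ← Units.val_pow_eq_pow_val]
    congr 1
    rw [inv_eq_iff_mul_eq_one, ← pow_succ']
    exact orderOf_dvd_iff_pow_eq_one.1 hM
  -- the identity on `R`
  have key : ∀ e ∈ E, ∀ u ∈ R, ∀ v, QuadraticMap.polar Q (e *ᵥ u) v =
      QuadraticMap.polar Q u ((e ^ (Nat.card F ^ a)) *ᵥ v) := by
    intro e he u hu v
    obtain ⟨w, z, hw, hv⟩ := exists_fix hXM hb.copq v
    have hz : X *ᵥ z - z ∈ R := (memR _).2 ⟨z, rfl⟩
    have hw' : X *ᵥ w = w := hw
    have hv' : v = w + (X *ᵥ z - z) := hv
    rw [hv', Matrix.mulVec_add, hQ.polar_bilinear.add_right, hQ.polar_bilinear.add_right,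
      horth w hw' _ (hER e he u hu), horth _ (hEfix _ (E.pow_mem he _) w hw') u hu, zero_add, zero_add]
    obtain ⟨f, hf⟩ := hcyc _ (hER e he v₀ hv₀)
    have hfe : ∀ u ∈ R, Polynomial.aeval X f *ᵥ u = e *ᵥ u := by
      intro u hu
      obtain ⟨g, rfl⟩ := hcyc u hu
      rw [Matrix.mulVec_mulVec, ← map_mul, mul_comm, map_mul, ← Matrix.mulVec_mulVec, ← hf, Matrix.mulVec_mulVec,
        Matrix.mulVec_mulVec, comm_aeval (hcomm e he)]
    have hpow : ∀ n : ℕ, ∀ u ∈ R, (Polynomial.aeval X f) ^ n *ᵥ u = e ^ n *ᵥ u := by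
      intro n
      induction n with
      | zero => intro u _; rw [pow_zero, pow_zero]
      | succ n ih =>
        intro u hu
        rw [pow_succ, pow_succ, ← Matrix.mulVec_mulVec, ← Matrix.mulVec_mulVec, hfe u hu, ih _ (hER e he u hu)]
    rw [← hfe u hu, polar_aeval hQ hxQ, hinv, aeval_pow, hpow _ _ hz]
  -- the subspace of all `u` with this property is `H`-invariant
  let Z : Submodule F (ι → F) :=
    { carrier := {u | ∀ e ∈ E, ∀ v, QuadraticMap.polar Q (e *ᵥ u) v =
        QuadraticMap.polar Q u ((e ^ (Nat.card F ^ a)) *ᵥ v)}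
      add_mem' := by
        intro u u' hu hu' e he v
        rw [Matrix.mulVec_add, hQ.polar_bilinear.add_left, hQ.polar_bilinear.add_left, hu e he, hu' e he]
      zero_mem' := by
        intro e he v
        rw [Matrix.mulVec_zero, polar_zero_left hQ, polar_zero_left hQ]
      smul_mem' := by
        intro c u hu e he v
        rw [Matrix.mulVec_smul, hQ.polar_bilinear.smul_left, hQ.polar_bilinear.smul_left, hu e he] }
  have hZinv : ∀ h ∈ H, ∀ u ∈ Z, (h : Matrix ι ι F) *ᵥ u ∈ Z := by
    intro h hh u hu e he v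
    set e' : Matrix ι ι F := ((h⁻¹ : GL ι F) : Matrix ι ι F) * e * (h : Matrix ι ι F) with he'
    have he'E : e' ∈ E := by
      have h1 := (hN (H.inv_mem hh) e).1 he
      rwa [inv_inv] at h1
    have h2 : e * (h : Matrix ι ι F) = (h : Matrix ι ι F) * e' := by
      rw [he', ← mul_assoc, ← mul_assoc, ← Units.val_mul, mul_inv_cancel, Units.val_one, one_mul]
    have h3 : ∀ n : ℕ, e ^ n * (h : Matrix ι ι F) = (h : Matrix ι ι F) * e' ^ n := by
      intro n
      induction n with
      | zero => rw [pow_zero, pow_zero, one_mul, mul_one]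
      | succ n ih => rw [pow_succ, pow_succ, mul_assoc, h2, ← mul_assoc, ih, mul_assoc]
    have h4 := polar_isom (hH hh) (e' *ᵥ u) (((h⁻¹ : GL ι F) : Matrix ι ι F) *ᵥ v)
    have h5 : (h : Matrix ι ι F) *ᵥ (((h⁻¹ : GL ι F) : Matrix ι ι F) *ᵥ v) = v := by
      rw [Matrix.mulVec_mulVec, ← Units.val_mul, mul_inv_cancel, Units.val_one, Matrix.one_mulVec]
    rw [Matrix.mulVec_mulVec, h2, ← Matrix.mulVec_mulVec]
    nth_rewrite 1 [← h5]
    rw [h4, hu e' he'E, ← polar_isom (hH hh) u, Matrix.mulVec_mulVec, Matrix.mulVec_mulVec, ← h3,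
      mul_assoc, ← Units.val_mul, mul_inv_cancel, Units.val_one, mul_one]
  have hZtop : Z = ⊤ := by
    by_contra hne
    apply hirr
    refine ⟨Z, ?_, hne, fun h hh => ?_⟩
    · intro hbot
      have h1 : v₀ ∈ Z := fun e he v => key e he v₀ hv₀ v
      rw [hbot] at h1
      exact hv₀0 ((Submodule.mem_bot F).1 h1)
    · intro v
      constructor
      · exact fun hv => hZinv h hh v hv
      · intro hv
        have h1 := hZinv h⁻¹ (H.inv_mem hh) _ hv
        change ((h⁻¹ : GL ι F) : Matrix ι ι F) *ᵥ ((h : Matrix ι ι F) *ᵥ v) ∈ Z at h1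
        rwa [Matrix.mulVec_mulVec, ← Units.val_mul, inv_mul_cancel, Units.val_one, Matrix.one_mulVec] at h1
  have h1 : u ∈ Z := by rw [hZtop]; trivial
  exact h1 e he v

/-- in a field of `q²` elements, `e ^ (q ^ a) = e` for `a` even and `e ^ (q ^ a) = e ^ q` for `a` odd -/
theorem pow_of_even [Nonempty ι] {E : Subalgebra F (Matrix ι ι F)} (hE : IsFieldSubalgebra 2 E) {e : Matrix ι ι F}
    (he : e ∈ E) {a : ℕ} (ha : Even a) : e ^ (Nat.card F ^ a) = e := by
  have := Fintype.ofFinite F
  let _ : Field E := (isField_of hE).toField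
  have hfin : Finite E := inferInstance
  have := Fintype.ofFinite E
  have h1 : Fintype.card E = Nat.card F ^ 2 := by
    rw [← Nat.card_eq_fintype_card, card_K hE, Nat.card_eq_fintype_card]
  obtain ⟨k, rfl⟩ := ha
  have h2 : (⟨e, he⟩ : E) ^ (Fintype.card E) ^ k = ⟨e, he⟩ := FiniteField.pow_card_pow k _
  rw [h1, ← pow_mul, two_mul] at h2
  exact congrArg Subtype.val h2

/-- **The parity lemma.** -/
theorem parity [Nonempty ι] (hQ : IsNondegenerateQuadraticForm Q) {H : Subgroup (GL ι F)}
    (hH : H ≤ isometryGroup F Q) (hirr : ¬ Red H) {E : Subalgebra F (Matrix ι ι F)} (hE : IsFieldSubalgebra 2 E)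
    (hN : H ≤ subalgebraNormalizer E) {x y : GL ι F} (hx : x ∈ H) (hy : y ∈ H) {a b : ℕ} (ha : 1 ≤ a) (hb : 1 ≤ b)
    (hae : Even a) (hbo : Odd b) (hox : Odd (orderOf x)) (hoy : Odd (orderOf y))
    (hMx : orderOf x ∣ Nat.card F ^ a + 1) (hMy : orderOf y ∣ Nat.card F ^ b + 1)
    (hbx : Blk (2 * a) x) (hby : Blk (2 * b) y) : False := by
  have := Fintype.ofFinite F
  have key : ∀ e ∈ E, e ^ Nat.card F = e := by
    intro e he
    have h1 : ∀ u v, QuadraticMap.polar Q u (e *ᵥ v) = QuadraticMap.polar Q u ((e ^ Nat.card F) *ᵥ v) := by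
      intro u v
      have h2 := adj_of_mem hQ hH hirr hE hN hx ha hox hMx hbx he u v
      have h3 := adj_of_mem hQ hH hirr hE hN hy hb hoy hMy hby he u v
      rw [h2] at h3
      obtain ⟨k, rfl⟩ := hbo
      rw [pow_of_even hE he hae, pow_succ, pow_mul, pow_of_even hE he (even_two_mul k)] at h3
      exact h3
    apply Matrix.toLin'.injective
    apply LinearMap.ext
    intro v
    rw [Matrix.toLin'_apply, Matrix.toLin'_apply]
    by_contra hne
    obtain ⟨⟨u, hu⟩, -⟩ := hQ.nondegenerate (e ^ Nat.card F *ᵥ v - e *ᵥ v) (sub_ne_zero.2 hne)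
    apply hu
    have h4 := hQ.polar_bilinear.add_right u (e ^ Nat.card F *ᵥ v - e *ᵥ v) (e *ᵥ v)
    rw [sub_add_cancel, h1] at h4
    have h5 : QuadraticMap.polar Q u (e ^ Nat.card F *ᵥ v - e *ᵥ v) + QuadraticMap.polar Q u (e ^ Nat.card F *ᵥ v) =
      0 + QuadraticMap.polar Q u (e ^ Nat.card F *ᵥ v) := by rw [← h4, zero_add]
    exact add_right_cancel h5
  let _ : Field E := (isField_of hE).toField
  have hfin : Finite E := inferInstance
  have := Fintype.ofFinite E
  have h1 : Fintype.card E = Fintype.card F ^ 2 := by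
    rw [← Nat.card_eq_fintype_card, card_K hE]
  classical
  have hq : 1 < Fintype.card F := Fintype.one_lt_card
  have h2 : (Finset.univ : Finset E).card ≤ (Polynomial.X ^ Fintype.card F - Polynomial.X : Polynomial E).natDegree := by
    have hp0 : (Polynomial.X ^ Fintype.card F - Polynomial.X : Polynomial E) ≠ 0 := FiniteField.X_pow_card_sub_X_ne_zero E hq
    have h3 : (Finset.univ : Finset E) ⊆ ((Polynomial.X ^ Fintype.card F - Polynomial.X : Polynomial E).roots.toFinset :) := by
      intro e _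
      rw [Multiset.mem_toFinset, Polynomial.mem_roots hp0, Polynomial.IsRoot.def, Polynomial.eval_sub,
        Polynomial.eval_pow, Polynomial.eval_X, sub_eq_zero]
      apply Subtype.ext
      have := key e e.2
      rwa [Nat.card_eq_fintype_card] at this
    exact (Finset.card_le_card h3).trans ((Multiset.toFinset_card_le _).trans (Polynomial.card_roots' _))
  rw [Finset.card_univ, h1, FiniteField.X_pow_card_sub_X_natDegree_eq E hq] at h2
  nlinarith only [hq, h2]

end adj

end Cfsg.Agent.H383.Cov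
end
end

-- part: H89/Cov/Forms
section
prune_inst 0x5604040000000000800801032201c4682000402000800000822000005c00f0200800160bd101000028c0c0570390000000000000020000000000000011800800000000400000000000000000000000000000000000000000000000000000004000000000
set_option linter.all false
open scoped Cfsg.Agent.FastGrp

/-!
# S2499 (normal 2-coverings): isometry groups of other forms inside the isometry group of a unitary form

* `symp_unit_false`  : the isometries of a symplectic form do not all preserve a unitary form;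
* `omega_unit_false` : `Ω` of a quadratic form in dimension at least five does not preserve a unitary form;
* `unit_prop`        : if the determinant-one isometries of a unitary form preserve another one, the two are proportional;
* `aut_unique`       : the automorphism of order two of a finite field is unique.
-/

set_option autoImplicit false
set_option linter.unusedSectionVars false

namespace Cfsg.Agent.H89.Cov

open Cfsg Cfsg.Geo Matrix QuadraticMap Cfsg.Agent.H929 Cfsg.Agent.H873 Cfsg.Agent.H925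
open Cfsg.Agent.LieClassical.OrthTrans
open scoped MatrixGroups

/-- the automorphism of order two of a finite field is unique -/
theorem aut_unique {F : Type*} [Field F] [Finite F] {σ τ : F ≃+* F} (h1 : σ ≠ RingEquiv.refl F)
    (h2 : ∀ x, σ (σ x) = x) (h3 : τ ≠ RingEquiv.refl F) (h4 : ∀ x, τ (τ x) = x) : σ = τ := by
  classical
  by_contra hne
  have hc : IsCyclic (F ≃+* F) := LieRecognition.FieldSemilinear.isCyclic_ringAut F
  have hfin : Finite (F ≃+* F) := Finite.of_injective (fun σ : F ≃+* F => (σ : F → F)) DFunLike.coe_injective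
  have : Fintype (F ≃+* F) := Fintype.ofFinite _
  have h5 := IsCyclic.card_pow_eq_one_le (α := F ≃+* F) (n := 2) (by norm_num)
  have h6 : ({1, σ, τ} : Finset (F ≃+* F)) ⊆ Finset.univ.filter fun a : F ≃+* F => a ^ 2 = 1 := by
    intro a ha
    simp only [Finset.mem_insert, Finset.mem_singleton] at ha
    rw [Finset.mem_filter]
    refine ⟨Finset.mem_univ _, ?_⟩
    rcases ha with rfl | rfl | rfl
    · exact one_pow 2
    · rw [pow_two]; exact RingEquiv.ext h2
    · rw [pow_two]; exact RingEquiv.ext h4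
  have h7 := Finset.card_le_card h6
  have h8 : ({1, σ, τ} : Finset (F ≃+* F)).card = 3 := by
    rw [Finset.card_insert_of_notMem, Finset.card_insert_of_notMem, Finset.card_singleton]
    · rw [Finset.mem_singleton]; exact hne
    · rw [Finset.mem_insert, Finset.mem_singleton, not_or]
      exact ⟨fun h => h1 h.symm, fun h => h3 h.symm⟩
  omega

variable {ι : Type} [Fintype ι] [DecidableEq ι] {F : Type*} [Field F]

/-! ### Coordinate vectors of functionals -/

/-- the coordinate vector of the functional `f · w` -/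
def cv (f : (ι → F) → (ι → F) → F) (w : ι → F) : ι → F := fun j => f (Pi.single j 1) w

theorem cv_dot {f : (ι → F) → (ι → F) → F} (ha : ∀ x y v, f (x + y) v = f x v + f y v)
    (hs : ∀ (c : F) (x v : ι → F), f (c • x) v = c * f x v) (w u : ι → F) : cv f w ⬝ᵥ u = f u w := by
  let L : (ι → F) →ₗ[F] F :=
    { toFun := fun x => f x w
      map_add' := fun x y => ha x y w
      map_smul' := fun c x => hs c x w }
  have h1 : f u w = L u := rfl
  rw [h1]
  conv_rhs => rw [pi_eq_sum_univ u, map_sum]
  unfold dotProduct cv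
  refine Finset.sum_congr rfl fun j _ => ?_
  rw [map_smul, smul_eq_mul, mul_comm]
  congr 1
  have h2 : (Pi.single j 1 : ι → F) = fun j_1 => if j = j_1 then (1 : F) else 0 := by
    funext i
    simp [Pi.single_apply, eq_comm]
  rw [← h2]
  rfl

theorem fixesForm_singleton {A : Matrix ι ι F} {f : (ι → F) → (ι → F) → F} :
    FixesForm {A} f ↔ ∀ u v, f (A *ᵥ u) (A *ᵥ v) = f u v := by
  constructor
  · intro h u v
    exact h A rfl u v
  · rintro h _ rfl u v
    exact h u v

variable {σ : F ≃+* F} {f f' : (ι → F) → (ι → F) → F}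

/-- a unitary form has a non-isotropic vector -/
theorem exists_nonisotropic (hf : IsUnitaryForm σ f) {x : ι → F} (hx : x ≠ 0) : ∃ w : ι → F, f w w ≠ 0 := by
  obtain ⟨u, -, hu⟩ := (Herm.of_unitary hf).exists_nonisotropic hf.ne_refl ⊤
    (fun y _ hy => by
      obtain ⟨z, hz⟩ := (hf.nondegenerate y hy).2
      exact ⟨z, Submodule.mem_top, hz⟩) (Submodule.mem_top (x := x)) hx
  exact ⟨u, hu⟩

/-- **the isometries of a symplectic form do not all preserve a unitary form** -/
theorem symp_unit_false [Nonempty ι] (hf : IsUnitaryForm σ f) (hf' : IsSymplecticForm f')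
    (h : ∀ x : GL ι F, FixesForm {(x : Matrix ι ι F)} f' → FixesForm {(x : Matrix ι ι F)} f) : False := by
  obtain ⟨i⟩ := ‹Nonempty ι›
  have hi0 : (Pi.single i 1 : ι → F) ≠ 0 := by
    intro h0
    have := congrFun h0 i
    simp at this
  obtain ⟨w, hw⟩ := exists_nonisotropic hf hi0
  have hF := Herm.of_unitary hf
  have hw0 : w ≠ 0 := by
    rintro rfl
    exact hw (hF.zero_left 0)
  have hdot : ∀ u, cv f' w ⬝ᵥ u = f' u w := cv_dot hf'.bilinear.add_left hf'.bilinear.smul_left w
  have h0 : cv f' w ⬝ᵥ w = 0 := by rw [hdot, hf'.alternating]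
  have h1 : FixesForm {(tv w (cv f' w) h0 : Matrix ι ι F)} f' := by
    rw [fixesForm_singleton]
    intro u v
    rw [tv_mulVec, tv_mulVec, hdot, hdot, hf'.bilinear.add_left, hf'.bilinear.add_right, hf'.bilinear.add_right,
      hf'.bilinear.smul_left, hf'.bilinear.smul_left, hf'.bilinear.smul_right, hf'.bilinear.smul_right,
      hf'.alternating, hf'.skew w v]
    ring
  have h2 := h _ h1
  rw [fixesForm_singleton] at h2
  obtain ⟨x, hx⟩ := (hf'.nondegenerate w hw0).1
  have h3 := h2 x w
  rw [tv_mulVec, tv_mulVec, hdot, hdot, hf'.alternating, zero_smul, add_zero, hf.add_left, hf.smul_left] at h3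
  have h4 : f' x w * f w w = 0 := by linear_combination h3
  rcases mul_eq_zero.1 h4 with h5 | h5
  · exact hx h5
  · exact hw h5

/-- **two unitary forms, the determinant-one isometries of the second preserve the first: proportional** -/
theorem unit_prop [Finite F] (hn : 2 ≤ Fintype.card ι) (hf : IsUnitaryForm σ f) (hf' : IsUnitaryForm σ f')
    (h : ∀ x : GL ι F, FixesForm {(x : Matrix ι ι F)} f' → Matrix.GeneralLinearGroup.det x = 1 →
      FixesForm {(x : Matrix ι ι F)} f) : ∃ c : F, c ≠ 0 ∧ ∀ x y, f x y = c * f' x y := by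
  have hF := Herm.of_unitary hf
  have hF' := Herm.of_unitary hf'
  obtain ⟨e, he0, he⟩ := exists_trace_zero hf.involutive hf.ne_refl
  have key : ∀ w, f' w w = 0 → f w w = 0 := by
    intro w hw
    by_cases hw0 : w = 0
    · rw [hw0, hF.zero_left]
    have hdot : ∀ u, cv f' w ⬝ᵥ u = f' u w := cv_dot hf'.add_left hf'.smul_left w
    have h0 : cv f' w ⬝ᵥ (e • w) = 0 := by rw [hdot, hf'.smul_left, hw, mul_zero]
    have h1 : FixesForm {(tv (e • w) (cv f' w) h0 : Matrix ι ι F)} f' := by
      rw [fixesForm_singleton]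
      intro x y
      rw [tv_mulVec, tv_mulVec, hdot, hdot, hF'.add_left, hF'.add_right, hF'.add_right,
        hF'.smul_left, hF'.smul_left, hF'.smul_left, hF'.smul_left, hF'.smul_right, hF'.smul_right,
        hF'.smul_right, hF'.smul_right, hw, he, hF'.herm w y]
      ring
    have hdet : Matrix.GeneralLinearGroup.det (tv (e • w) (cv f' w) h0) = 1 := by
      have h2 := tv_mem_specialLinear _ _ h0
      rw [mem_specialLinear_iff] at h2
      apply Units.ext
      exact h2
    have h2 := h _ h1 hdet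
    rw [fixesForm_singleton] at h2
    obtain ⟨x, hx⟩ := (hf'.nondegenerate w hw0).1
    have h3 := h2 x w
    rw [tv_mulVec, tv_mulVec, hdot, hdot, hw, zero_smul, add_zero, hF.add_left, hF.smul_left, hF.smul_left] at h3
    have h4 : f' x w * (e * f w w) = 0 := by linear_combination h3
    rcases mul_eq_zero.1 h4 with h5 | h5
    · exact absurd h5 hx
    · rcases mul_eq_zero.1 h5 with h6 | h6
      · exact absurd h6 he0
      · exact h6
  obtain ⟨c, -, hc⟩ := hF'.prop_of_isotropic hF hf.ne_refl (fun x hx => (hf'.nondegenerate x hx).2) hn key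
  refine ⟨c, ?_, hc⟩
  rintro rfl
  obtain ⟨i, -⟩ := Fintype.exists_pair_of_one_lt_card (show 1 < Fintype.card ι by omega)
  have hi0 : (Pi.single i 1 : ι → F) ≠ 0 := by
    intro h0
    have := congrFun h0 i
    simp at this
  obtain ⟨y, hy⟩ := (hf.nondegenerate _ hi0).2
  rw [hc, zero_mul] at hy
  exact hy rfl

/-- **`Ω` does not preserve a unitary form** -/
theorem omega_unit_false [Finite F] (hn : 5 ≤ Fintype.card ι) (hf : IsUnitaryForm σ f) {Q : (ι → F) → F}
    (hQ : IsNondegenerateQuadraticForm Q) (h : ∀ g ∈ omegaGL Q, FixesForm {(g : Matrix ι ι F)} f) : False := by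
  have hF := Herm.of_unitary hf
  have hG := good_qf hQ hn
  obtain ⟨e, he0, he⟩ := exists_trace_zero hf.involutive hf.ne_refl
  obtain ⟨t, ht⟩ := exists_trace_one hf.involutive hf.ne_refl
  -- the diagonal of `f` depends only on `Q`
  have hval : ∀ v v' : ι → F, v ≠ 0 → v' ≠ 0 → Q v = Q v' → f v v = f v' v' := by
    intro v v' hv hv' hvv
    obtain ⟨g, hg, rfl⟩ := exists_trans hQ hn hv hv' hvv
    exact (fixesForm_singleton.1 (h g hg) v v).symm
  have hQs : ∀ (c : F) (v : ι → F), Q (c • v) = c ^ 2 * Q v := hQ.smul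
  have hQa : ∀ u v : ι → F, Q (u + v) = Q u + Q v + polar Q u v := fun u v => by
    rw [polar]; ring
  have hpa : ∀ (c : F) (u v : ι → F), polar Q u (c • v) = c * polar Q u v := hQ.polar_bilinear.smul_right
  obtain ⟨x, y, hxy⟩ := hG.exists_hyp
  obtain ⟨z, w, hzw, hxz, hxw, hyz, hyw⟩ := hG.exists_hyp2 hxy
  have hx : Q x = 0 := hxy.left
  have hy : Q y = 0 := hxy.right
  have hz : Q z = 0 := hzw.left
  have hx0 : x ≠ 0 := hxy.left_ne
  have hy0 : y ≠ 0 := hxy.right_ne
  have hz0 : z ≠ 0 := hzw.left_ne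
  have hpxy : polar Q x y = 1 := hxy.pair
  have hpxz : polar Q x z = 0 := hxz
  have hpyz : polar Q y z = 0 := hyz
  -- the vectors `x + a z`
  have hne : ∀ a : F, x + a • z ≠ 0 := by
    intro a ha
    have h1 : polar Q y (x + a • z) = 1 := by
      rw [hQ.polar_bilinear.add_right, hpa, hpyz, mul_zero, add_zero, polar_comm, hpxy]
    rw [ha] at h1
    have h2 : polar Q y (0 : ι → F) = 0 := by
      have := hpa 0 y 0
      rwa [zero_smul, zero_mul] at this
    rw [h2] at h1
    exact zero_ne_one h1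
  have hsing : ∀ a : F, f (x + a • z) (x + a • z) = f x x := by
    intro a
    apply hval _ _ (hne a) hx0
    rw [hQa, hQs, hpa, hx, hz, hpxz]
    ring
  have hzx : f z z = f x x := hval _ _ hz0 hx0 (by rw [hz, hx])
  have hexp : ∀ (u v : ι → F) (a : F), f (u + a • v) (u + a • v) =
      f u u + a * σ a * f v v + (σ a * f u v + σ (σ a * f u v)) := by
    intro u v a
    rw [hF.add_left, hF.add_right, hF.add_right, hF.smul_left, hF.smul_left, hF.smul_right, hF.smul_right,
      map_mul, hf.involutive, hF.herm v u]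
    ring
  -- singular vectors are isotropic
  have hxx : f x x = 0 := by
    by_contra hne0
    have h1 : ∀ a : F, a * σ a * f x x + (σ a * f x z + σ (σ a * f x z)) = 0 := by
      intro a
      have h2 := hexp x z a
      rw [hsing, hzx] at h2
      linear_combination -h2
    by_cases hxz0 : f x z = 0
    · have h2 := h1 1
      rw [hxz0, map_one, mul_zero, map_zero] at h2
      apply hne0
      linear_combination h2
    · -- `a` with `σ a f(x,z) = e`
      have h2 := h1 (σ (e / f x z))
      rw [hf.involutive, div_mul_cancel₀ _ hxz0, he, add_neg_cancel, add_zero] at h2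
      rcases mul_eq_zero.1 h2 with h3 | h3
      · have h4 : e / f x z ≠ 0 := div_ne_zero he0 hxz0
        rcases mul_eq_zero.1 h3 with h5 | h5
        · exact h4 ((map_eq_zero σ).1 h5)
        · exact h4 h5
      · exact hne0 h3
  have hyy : f y y = 0 := by rw [hval y x hy0 hx0 (by rw [hy, hx]), hxx]
  set κ := f x y with hκ
  -- `f (x + a y) (x + a y) = Tr (σ a κ)`
  have hne2 : ∀ a : F, x + a • y ≠ 0 := by
    intro a ha
    have h1 : polar Q y (x + a • y) = 1 := by
      have h3 : polar Q y y = 0 := hxy.polar_right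
      rw [hQ.polar_bilinear.add_right, hpa, h3, mul_zero, add_zero, polar_comm, hpxy]
    rw [ha] at h1
    have h2 : polar Q y (0 : ι → F) = 0 := by
      have := hpa 0 y 0
      rwa [zero_smul, zero_mul] at this
    rw [h2] at h1
    exact zero_ne_one h1
  have hQxy : ∀ a : F, Q (x + a • y) = a := by
    intro a
    rw [hQa, hQs, hpa, hx, hy, hpxy]
    ring
  have hfxy : ∀ a : F, f (x + a • y) (x + a • y) = σ a * κ + σ (σ a * κ) := by
    intro a
    rw [hexp, hxx, hyy]
    ring
  -- all vectors
  have hall : ∀ v : ι → F, f v v = σ (Q v) * κ + σ (σ (Q v) * κ) := by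
    intro v
    by_cases hv : v = 0
    · have hQ0 : Q (0 : ι → F) = 0 := by
        have := hQs 0 0
        rw [zero_smul] at this
        rw [this]
        ring
      rw [hv, hF.zero_left, hQ0, map_zero, zero_mul, map_zero, add_zero]
    · rw [← hfxy]
      exact hval _ _ hv (hne2 _) (hQxy _).symm
  -- scaling
  have hscale : ∀ c b : F, σ (c ^ 2 * b) * κ + σ (σ (c ^ 2 * b) * κ) = c * σ c * (σ b * κ + σ (σ b * κ)) := by
    intro c b
    have h1 := hall (c • (x + b • y))
    rw [hQs, hQxy, hF.smul_left, hF.smul_right, hfxy] at h1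
    linear_combination -h1
  by_cases hκ0 : κ = 0
  · -- then `f` vanishes
    have hdiag : ∀ v : ι → F, f v v = 0 := by
      intro v
      rw [hall, hκ0, mul_zero, map_zero, add_zero]
    obtain ⟨w', hw'⟩ := exists_nonisotropic hf hx0
    exact hw' (hdiag w')
  · -- `(σ c)^2 = c^2`
    have hsq : ∀ c : F, σ c ^ 2 = c ^ 2 := by
      intro c
      have h1 := hscale c (σ (e / κ))
      have h2 : σ (c ^ 2 * σ (e / κ)) * κ = σ c ^ 2 * e := by
        rw [map_mul, map_pow, hf.involutive, mul_assoc, div_mul_cancel₀ _ hκ0]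
      have h3 : σ (σ (e / κ)) * κ = e := by rw [hf.involutive, div_mul_cancel₀ _ hκ0]
      rw [h2, h3, map_mul, map_pow, hf.involutive, he] at h1
      have h4 : (σ c ^ 2 - c ^ 2) * e = 0 := by linear_combination h1
      exact sub_eq_zero.1 ((mul_eq_zero.1 h4).resolve_right he0)
    apply hf.ne_refl
    apply RingEquiv.ext
    intro c
    rw [RingEquiv.refl_apply]
    by_cases h2 : (2 : F) = 0
    · have h3 : (σ c - c) ^ 2 = 0 := by
        have h4 := hsq c
        linear_combination h4 + (c ^ 2 - c * σ c) * h2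
      exact sub_eq_zero.1 (pow_eq_zero_iff two_ne_zero |>.1 h3)
    · have h3 := hsq (c + 1)
      rw [map_add, map_one] at h3
      have h4 : (2 : F) * (σ c - c) = 0 := by linear_combination h3 - hsq c
      exact sub_eq_zero.1 ((mul_eq_zero.1 h4).resolve_left h2)

end Cfsg.Agent.H89.Cov
end
end
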