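import Cfsg.Agent.H771.KTools_m3
import Cfsg.Agent.AutOrth.Main
import Cfsg.Agent.LieClassical.OrthCenter
import Cfsg.Agent.LieClassical.SympCenter
import Cfsg.Agent.LieClassical.OmegaReindex
import Cfsg.Agent.Lib.FieldAutCard
import Cfsg.Agent.H182.CentOrth
import Cfsg.Agent.H377.OddThree_m3
import Cfsg.Agent.H383.Cov.Parity_m3
import Cfsg.Agent.H62.PCGeo
import Cfsg.Agent.Prune
set_option linter.all false

section
prune_inst 0x7fffedfbfbfad9dfffff7ffdf6bccdfdfabbbfffa4dff9cbffe069ffa3dfeb1ac1c5a38d0bfb33fc1ea34a141ce87b43fdffdeffe26bf87ffffdbff45ffbffcffdf7bd00519588340fbc2ffe83f0678e7f3fffffffffffffffffffffffffffbeffbfffffffff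

-- part: H93/PReg/OrthTori
section
prune_inst 0x10000400262000000002080330000500000002200400000c040018000000082200308000c002011c010100040080020020001004000000000000000000100208002900080480100040007000100000000000000000000000000000000000000000000000
set_option linter.all false
open scoped Cfsg.Agent.FastGrp

-- part: H93/PReg/Semi
section
/-!
# Characteristic polynomials and semilinear maps (for S4883)

* `charpoly_semi` : if `B (g v) = g (A v)` with `g` bijective and `φ`-semilinear, then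
  `charpoly B = φ (charpoly A)`;
* `ctl_of_index` : control of `Aut S` from the control of a subgroup of finite index.
-/

set_option autoImplicit false

namespace Cfsg.Agent.H93.PReg

open Polynomial Matrix

section Semi

variable {F : Type*} [Field F] {ι : Type*} [Fintype ι] [DecidableEq ι]

/-- the matrix of the linear part of a semilinear map -/
theorem exists_linear_part (g : (ι → F) → (ι → F)) (φ : F ≃+* F) (hadd : ∀ u v, g (u + v) = g u + g v)
    (hsmul : ∀ (a : F) v, g (a • v) = φ a • g v) :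
    ∃ M : Matrix ι ι F, ∀ v : ι → F, M *ᵥ (fun i => φ (v i)) = g v := by
  let L : (ι → F) →ₗ[F] (ι → F) :=
    { toFun := fun v => g fun i => φ.symm (v i)
      map_add' := fun u v => by
        rw [← hadd]
        congr 1
        funext i
        simp
      map_smul' := fun a v => by
        have h : (fun i => φ.symm ((a • v) i)) = φ.symm a • fun i => φ.symm (v i) := by
          funext i
          simp
        rw [h, hsmul, RingEquiv.apply_symm_apply]
        rfl }
  refine ⟨LinearMap.toMatrix' L, fun v => ?_⟩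
  rw [LinearMap.toMatrix'_mulVec]
  show g (fun i => φ.symm (φ (v i))) = g v
  congr 1
  funext i
  exact φ.symm_apply_apply _

omit [DecidableEq ι] in
theorem mulVec_map (A : Matrix ι ι F) (φ : F ≃+* F) (v : ι → F) :
    (A.map φ) *ᵥ (fun i => φ (v i)) = fun i => φ ((A *ᵥ v) i) := by
  funext i
  simp only [Matrix.mulVec, dotProduct, Matrix.map_apply, map_sum, map_mul]

/-- **semilinear conjugation** -/
theorem charpoly_semi (g : (ι → F) → (ι → F)) (hg : Function.Surjective g) (φ : F ≃+* F)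
    (hadd : ∀ u v, g (u + v) = g u + g v) (hsmul : ∀ (a : F) v, g (a • v) = φ a • g v) (A B : Matrix ι ι F)
    (h : ∀ v, B *ᵥ g v = g (A *ᵥ v)) : B.charpoly = A.charpoly.map (φ : F →+* F) := by
  obtain ⟨M, hM⟩ := exists_linear_part g φ hadd hsmul
  have hsurj : Function.Surjective M.mulVec := by
    intro w
    obtain ⟨v, rfl⟩ := hg w
    exact ⟨_, hM v⟩
  have hunit : IsUnit M := Matrix.mulVec_surjective_iff_isUnit.1 hsurj
  have hcomm : B * M = M * A.map φ := by
    apply Matrix.mulVec_injective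
    funext w
    have hw : w = fun i => φ (φ.symm (w i)) := by
      funext i
      exact (φ.apply_symm_apply _).symm
    show (B * M) *ᵥ w = (M * A.map φ) *ᵥ w
    rw [← Matrix.mulVec_mulVec, ← Matrix.mulVec_mulVec, hw, mulVec_map, hM, hM, h]
  obtain ⟨u, rfl⟩ := hunit
  have hB : B = (u : Matrix ι ι F) * A.map φ * ((u⁻¹ : (Matrix ι ι F)ˣ) : Matrix ι ι F) := by
    rw [← hcomm, mul_assoc, Units.mul_inv, mul_one]
  rw [← Matrix.charpoly_map]
  rw [hB]
  rw [Matrix.coe_units_inv]
  exact charpoly_units_conj u (A.map φ)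

end Semi

section Index

universe u

variable {S : Type u} [Group S] {F : Type*} [Field F] {ι : Type*} [Fintype ι] [DecidableEq ι]
  {H : Type*} [Group H] {ρ : H →* Matrix ι ι F} {π : H →* S} {W : Type*}

/-- **control from a subgroup** -/
theorem ctl_of_index (B : Subgroup (MulAut S)) (hπ : Function.Surjective π) (P : W → H → F[X])
    (hP : ∀ w g, (P w g) ≠ 0 ∧ (P w g).natDegree ≤ Fintype.card ι)
    (h : ∀ a ∈ B, ∀ g g' : H, a (π g) = π g' → ∃ w, (ρ g').charpoly = P w g) :
    Ctl ρ π (W × (MulAut S ⧸ B)) := by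
  choose lft hlft using hπ
  refine ⟨fun w g => P w.1 (lft ((w.2.out)⁻¹ (π g))), fun w g => hP _ _, fun a g g' hag => ?_⟩
  set c : MulAut S ⧸ B := QuotientGroup.mk a⁻¹ with hc
  have h1 : c.out⁻¹ * a⁻¹ ∈ B := by
    rw [← QuotientGroup.eq, QuotientGroup.out_eq']
  have h2 : (c.out⁻¹ * a⁻¹)⁻¹ ∈ B := B.inv_mem h1
  obtain ⟨w, hw⟩ := h _ h2 (lft (c.out⁻¹ (π g))) g' (by
    rw [hlft, _root_.mul_inv_rev, inv_inv, inv_inv, MulAut.mul_apply]
    have h3 : c.out (c.out⁻¹ (π g)) = π g := MulAut.apply_inv_self S c.out (π g)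
    rw [h3, hag])
  exact ⟨(w, c), hw⟩

end Index

end Cfsg.Agent.H93.PReg
end

-- part: H93/PReg/OrthCtl
section
/-!
# Orthogonal groups: automorphisms and characteristic polynomials (for S4883)
-/

set_option autoImplicit false
set_option linter.unusedSectionVars false

namespace Cfsg.Agent.H93.PReg.Orth

open QuadraticMap Cfsg.Agent.LieClassical.OrthCore Cfsg.Agent.LieClassical.OrthTrans
  Cfsg.Agent.LieClassical.OrthSimple Cfsg.Agent.AutOrth.SemiSim Cfsg.Agent.AutOrth.Main
  Cfsg.Agent.ClassicalGeometry.OrthAut1 Cfsg.Agent.LieClassical.QuadForms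
  Cfsg.Agent.LieClassical.OrthFinite Cfsg.Agent.LieClassical
open Polynomial Matrix Cfsg.Agent.H93.PReg Cfsg

variable {ι : Type} [Fintype ι] [DecidableEq ι] {F : Type} [Field F] [Fintype F]

/-- the inclusion of `Ω` in the matrices -/
def ρ (Q : (ι → F) → F) : Omega F Q →* Matrix ι ι F :=
  (Units.coeHom (Matrix ι ι F)).comp ((isometryGroup F Q).subtype.comp (Omega F Q).subtype)

theorem ρ_apply (Q : (ι → F) → F) (g : Omega F Q) :
    ρ Q g = (((g : isometryGroup F Q) : Matrix.GeneralLinearGroup ι F) : Matrix ι ι F) := rfl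

/-- the projection -/
def pr (Q : (ι → F) → F) : Omega F Q →* POmega F Q := QuotientGroup.mk' _

theorem pr_surjective (Q : (ι → F) → F) : Function.Surjective (pr Q) := QuotientGroup.mk'_surjective _

theorem exists_center {Q : (ι → F) → F} {x y : Omega F Q} (h : pr Q x = pr Q y) :
    ∃ z : Subgroup.center (Omega F Q), y = x * z.1 := by
  have h1 : x⁻¹ * y ∈ Subgroup.center (Omega F Q) := QuotientGroup.eq.1 h
  exact ⟨⟨x⁻¹ * y, h1⟩, (mul_inv_cancel_left _ _).symm⟩

/-- **control** for the automorphisms induced by semisimilarities -/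
theorem ctl_ind {Q : QuadraticForm F (ι → F)} (hG : Good Q) (α : MulAut (POmega F ⇑Q)) (hα : Ind ⇑Q α)
    (g g' : Omega F ⇑Q) (h : α (pr ⇑Q g) = pr ⇑Q g') :
    ∃ w : Subgroup.center (Omega F ⇑Q) × (F ≃+* F),
      (ρ ⇑Q g').charpoly = (ρ ⇑Q (g * w.1.1)).charpoly.map (w.2 : F →+* F) := by
  obtain ⟨σ, μ, T, ⟨hμ, hs, hQ⟩, hT⟩ := hα
  have hM : IsSemi Q T σ μ := ⟨hμ, hs, hQ⟩
  let C : MulAut (Omega F ⇑Q) := MulAut.congr (oe hG).symm (conjE hM)
  have hC : ∀ (x : Omega F ⇑Q) (v : ι → F), (ρ ⇑Q (C x)) *ᵥ T v = T ((ρ ⇑Q x) *ᵥ v) := by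
    intro x v
    have h1 : oe hG (C x) = conjE hM (oe hG x) := (oe hG).apply_symm_apply _
    rw [ρ_apply, ρ_apply, ← oe_apply hG, ← oe_apply hG, h1, conjE_apply]
  have h1 : pr ⇑Q (C g) = pr ⇑Q g' := by
    rw [← h]
    exact (hT g (C g) (hC g)).symm
  obtain ⟨z, hz⟩ := exists_center h1
  have hz' : C.symm z.1 ∈ Subgroup.center (Omega F ⇑Q) := by
    rw [Subgroup.mem_center_iff]
    intro x
    apply C.injective
    rw [map_mul, map_mul, MulEquiv.apply_symm_apply]
    exact Subgroup.mem_center_iff.1 z.2 _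
  refine ⟨(⟨_, hz'⟩, σ), ?_⟩
  have h2 : g' = C (g * C.symm z.1) := by
    rw [map_mul, MulEquiv.apply_symm_apply, ← hz]
  rw [h2]
  exact charpoly_semi T T.surjective σ T.map_add hs _ _ fun v => hC _ v

theorem charpoly_ok {Q : (ι → F) → F} (w : Subgroup.center (Omega F Q) × (F ≃+* F)) (g : Omega F Q) :
    (ρ Q (g * w.1.1)).charpoly.map (w.2 : F →+* F) ≠ 0 ∧
      ((ρ Q (g * w.1.1)).charpoly.map (w.2 : F →+* F)).natDegree ≤ Fintype.card ι := by
  have h1 := charpoly_monic (ρ Q (g * w.1.1))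
  refine ⟨(h1.map _).ne_zero, ?_⟩
  rw [h1.natDegree_map]
  exact (charpoly_natDegree_eq_dim _).le

/-- **control** if all automorphisms are induced by semisimilarities -/
theorem ctl_all {Q : QuadraticForm F (ι → F)} (hG : Good Q) (hall : ∀ α, Ind ⇑Q α) :
    Ctl (ρ ⇑Q) (pr ⇑Q) (Subgroup.center (Omega F ⇑Q) × (F ≃+* F)) :=
  ⟨fun w g => (ρ ⇑Q (g * w.1.1)).charpoly.map (w.2 : F →+* F), charpoly_ok,
    fun a g g' h => ctl_ind hG a (hall a) g g' h⟩

/-- the centre -/
theorem card_center_le {Q : QuadraticForm F (ι → F)} (hQ : Nondeg Q) (h5 : 5 ≤ Fintype.card ι) :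
    Nat.card (Subgroup.center (Omega F ⇑Q)) ≤ Nat.gcd 2 (Fintype.card F - 1) := by
  have hs : ∃ u : ι → F, u ≠ 0 ∧ Q u = 0 := by
    obtain ⟨w, -, h1, h2⟩ := Cfsg.Agent.LieClassical.OrthFinite.exists_sing_mem (Q := Q) (⊤ : Submodule F (ι → F)) (by
      rw [finrank_top, Module.finrank_fintype_fun_eq_card]
      omega)
    exact ⟨w, h1, h2⟩
  have hne : Nonempty ι := by
    rw [← Fintype.card_pos_iff]
    omega
  have hnd : (polarBilin Q).Nondegenerate := OmegaReindex.nondegenerate_of_left Q hQ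
  have key : ∀ z : Subgroup.center (Omega F ⇑Q), ∃ a : {a : F // a * a = 1}, ρ ⇑Q z.1 = (a : F) • 1 := by
    intro z
    rcases (OrthCenter.mem_center_omega_iff hnd (by omega) hs z.1).1 z.2 with h | h
    · exact ⟨⟨1, by ring⟩, by rw [one_smul]; exact h⟩
    · exact ⟨⟨-1, by ring⟩, by rw [neg_smul, one_smul]; exact h⟩
  choose f hf using key
  rw [← SympCenter.card_sqrt_one (F := F)]
  apply Nat.card_le_card_of_injective f
  intro z z' h
  apply Subtype.ext
  apply Subtype.ext
  apply Subtype.ext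
  apply Units.ext
  have h1 := hf z
  rw [h, ← hf z'] at h1
  exact h1

end Cfsg.Agent.H93.PReg.Orth
end

-- part: H93/PReg/OrthTori
section
/-!
# Orthogonal groups: elements with an eigenvalue of large order (for S4883)

* `HasEig g y` : `g` acts on a copy of the field `L` as the multiplication by `y ∈ L`;
* `EigElt F n ε N` : a nondegenerate quadratic form of sign `ε` in dimension `2n` has an isometry with an eigenvalue
  of order `N`; `eig_plus`, `eig_minus` (tori), `EigElt.extend`;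
* `MO_of_isom` : counting in `POmega`.
-/

set_option autoImplicit false
set_option linter.unusedSectionVars false

namespace Cfsg.Agent.H93.PReg.Orth

open QuadraticMap Cfsg.Agent.LieClassical.OrthCore Cfsg.Agent.LieClassical.OrthForms
open Polynomial Matrix Cfsg.Agent.H93.PReg Cfsg
open Cfsg.Agent.H182.Sign Cfsg.Agent.H182.Orth

section Eig

variable {F : Type*} [Field F] {V W L : Type*} [AddCommGroup V] [Module F V] [AddCommGroup W] [Module F W]
  [Field L] [Algebra F L]

/-- `g` acts on a copy of `L` as the multiplication by `y` -/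
def HasEig (g : Module.End F V) (y : L) : Prop :=
  ∃ j : L →ₗ[F] V, Function.Injective j ∧ ∀ z, g (j z) = j (y * z)

theorem HasEig.pow {g : Module.End F V} {y : L} (h : HasEig g y) (k : ℕ) : HasEig (g ^ k) (y ^ k) := by
  obtain ⟨j, hj, h1⟩ := h
  refine ⟨j, hj, ?_⟩
  induction k with
  | zero => intro z; simp
  | succ k ih =>
    intro z
    rw [pow_succ, Module.End.mul_apply, h1, ih, pow_succ, mul_assoc]

theorem HasEig.prod {g : Module.End F V} {y : L} (h : HasEig g y) (g' : Module.End F W) :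
    HasEig (g.prodMap g') y := by
  obtain ⟨j, hj, h1⟩ := h
  refine ⟨(LinearMap.inl F V W).comp j, ?_, fun z => ?_⟩
  · intro a b hab
    exact hj (congrArg Prod.fst hab)
  · show (g (j z), g' 0) = (j (y * z), 0)
    rw [h1, map_zero]

/-- eigenvalues of matrices -/
theorem root_of_eig {ι : Type*} [Fintype ι] [DecidableEq ι] (M : Matrix ι ι F) (y : L)
    (h : HasEig (Matrix.toLinAlgEquiv' M : Module.End F (ι → F)) y) : aeval y M.charpoly = 0 := by
  obtain ⟨j, hj, h1⟩ := h
  have key : ∀ (p : F[X]) (z : L), (Matrix.toLinAlgEquiv' (aeval M p) : Module.End F (ι → F)) (j z) =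
      j (aeval y p * z) := by
    intro p
    induction p using Polynomial.induction_on' with
    | add p q hp hq =>
      intro z
      rw [map_add, map_add, LinearMap.add_apply, hp, hq, map_add, add_mul, map_add]
    | monomial n a =>
      intro z
      have h2 := (HasEig.pow ⟨j, hj, h1⟩ n : HasEig ((Matrix.toLinAlgEquiv' M : Module.End F (ι → F)) ^ n) (y ^ n))
      rw [aeval_monomial, aeval_monomial, map_mul, AlgEquiv.commutes, Module.End.mul_apply, map_pow]
      have h3 : ∀ (k : ℕ) (z : L), ((Matrix.toLinAlgEquiv' M : Module.End F (ι → F)) ^ k) (j z) = j (y ^ k * z) := by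
        intro k
        induction k with
        | zero => intro z; simp
        | succ k ih =>
          intro z
          rw [pow_succ, Module.End.mul_apply, h1, ih, pow_succ, mul_assoc]
      rw [h3, mul_assoc, ← Algebra.smul_def, map_smul]
      rfl
  have h2 := key M.charpoly 1
  rw [Matrix.aeval_self_charpoly, map_zero, LinearMap.zero_apply, mul_one] at h2
  apply hj
  rw [← h2, map_zero]

end Eig

/-! ### The norm form -/

section Norm

variable {K L : Type*} [Field K] [Field L] [Algebra K L] (b : Module.Basis (Fin 2) K L)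

/-- entries of the multiplication matrix -/
noncomputable def ent (i j : Fin 2) : L →ₗ[K] K :=
  (Matrix.entryLinearMap K K i j).comp (Algebra.leftMulMatrix b).toLinearMap

/-- the norm form of a quadratic extension -/
noncomputable def normQ : QuadraticForm K L :=
  QuadraticMap.linMulLin (ent b 0 0) (ent b 1 1) - QuadraticMap.linMulLin (ent b 0 1) (ent b 1 0)

theorem normQ_apply (v : L) : normQ b v = Algebra.norm K v := by
  rw [Algebra.norm_eq_matrix_det b, Matrix.det_fin_two]
  rfl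

theorem sg_normQ [Finite K] [Finite L] : Sg (normQ b) 1 (-1) := by
  have hfin : FiniteDimensional K L := Module.Finite.of_basis b
  have hrk : Module.finrank K L = 2 := by rw [Module.finrank_eq_card_basis b, Fintype.card_fin]
  have h1 : Cfsg.Agent.H403.Classify.IsMinus (normQ b) 0 := by
    apply isMinus_of_aniso _ hrk
    intro x hx h0
    rw [normQ_apply] at h0
    exact hx ((Algebra.norm_eq_zero_iff_of_basis b).1 h0)
  obtain ⟨a, c, hab, e, he⟩ := h1
  exact (sg_minusForm (F := K) 0 hab).congr e he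

end Norm

/-! ### Tori -/

/-- a nondegenerate quadratic form of sign `ε` in dimension `2n` has an isometry with an eigenvalue of order `N` -/
def EigElt (F : Type) [Field F] [Finite F] (n : ℕ) (ε : ℤ) (N : ℕ) : Prop :=
  ∃ (V : Type) (_ : AddCommGroup V) (_ : Module F V) (_ : Finite V) (Q : QuadraticForm F V) (g : Module.End F V)
    (L : Type) (_ : Field L) (_ : Algebra F L) (y : L),
    Sg Q n ε ∧ (∀ v, Q (g v) = Q v) ∧ HasEig g y ∧ orderOf y = N

section Tori

variable {F : Type} [Field F] [Fintype F]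

theorem eig_plus (k : ℕ) (hk : k ≠ 0) : EigElt F k 1 (Fintype.card F ^ k - 1) := by
  obtain ⟨K, _, _, b, hKf, y, hK, hy⟩ := Singer.exists_ext F k hk
  have hrk : Module.finrank F K = k := by rw [Module.finrank_eq_card_basis b, Fintype.card_fin]
  have hs := (sg_hypForm (F := K)).res (F := F)
  rw [hrk, mul_one] at hs
  refine ⟨K × K, inferInstance, inferInstance, inferInstance, traceForm F (hypForm K),
    (LinearMap.mulLeft F (y : K)).prodMap (LinearMap.mulLeft F ((y⁻¹ : Kˣ) : K)), K, inferInstance, inferInstance,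
    (y : K), hs, ?_, ?_, ?_⟩
  · intro v
    rw [traceForm_apply, traceForm_apply]
    congr 1
    show (y : K) * v.1 * (((y⁻¹ : Kˣ) : K) * v.2) = v.1 * v.2
    have h1 : (y : K) * ((y⁻¹ : Kˣ) : K) = 1 := Units.mul_inv y
    linear_combination v.1 * v.2 * h1
  · exact HasEig.prod ⟨LinearMap.id, fun a b h => h, fun z => rfl⟩ _
  · rw [orderOf_units, hy]

theorem eig_minus (k : ℕ) (hk : k ≠ 0) : EigElt F k (-1) (Fintype.card F ^ k + 1) := by
  obtain ⟨K, _, _, b, hKf, -, hK, -⟩ := Singer.exists_ext F k hk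
  have := Fintype.ofFinite K
  obtain ⟨L, _, _, b', hLf, g, hL, hg⟩ := Singer.exists_ext K 2 two_ne_zero
  let _ : Algebra F L := ((algebraMap K L).comp (algebraMap F K)).toAlgebra
  have : IsScalarTower F K L := IsScalarTower.of_algebraMap_eq fun _ => rfl
  have hKc : Fintype.card K = Fintype.card F ^ k := by rw [← hK, Nat.card_eq_fintype_card]
  have hq : 2 ≤ Fintype.card K := Fintype.one_lt_card
  have hrk : Module.finrank F K = k := by rw [Module.finrank_eq_card_basis b, Fintype.card_fin]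
  have hs := (sg_normQ b').res (F := F)
  rw [hrk, mul_one] at hs
  have hnorm : Algebra.norm K ((g : L) ^ (Fintype.card K - 1)) = 1 := by
    rw [map_pow]
    apply FiniteField.pow_card_sub_one_eq_one
    rw [Ne, Algebra.norm_eq_zero_iff_of_basis b']
    exact g.ne_zero
  have ho : orderOf ((g : L) ^ (Fintype.card K - 1)) = Fintype.card F ^ k + 1 := by
    rw [← Units.val_pow_eq_pow_val, orderOf_units, orderOf_pow_of_dvd (by omega), hg, ← hKc]
    · have h1 : Fintype.card K ^ 2 - 1 = (Fintype.card K + 1) * (Fintype.card K - 1) := by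
        have := Nat.sq_sub_sq (Fintype.card K) 1
        simpa using this
      rw [h1, Nat.mul_div_cancel _ (by omega)]
    · rw [hg]
      simpa using Nat.sub_dvd_pow_sub_pow (Fintype.card K) 1 2
  refine ⟨L, inferInstance, inferInstance, inferInstance, traceForm F (normQ b'),
    LinearMap.mulLeft F ((g : L) ^ (Fintype.card K - 1)), L, inferInstance, inferInstance, _, hs, ?_, ?_, ho⟩
  · intro v
    rw [traceForm_apply, traceForm_apply]
    congr 1
    rw [normQ_apply, normQ_apply, LinearMap.mulLeft_apply, map_mul, hnorm, one_mul]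
  · exact ⟨LinearMap.id, fun a b h => h, fun z => rfl⟩

theorem EigElt.extend {n m : ℕ} {ε δ : ℤ} {N : ℕ} (h : EigElt F n ε N) (hnm : n < m) (hδ : δ = 1 ∨ δ = -1) :
    EigElt F m δ N := by
  obtain ⟨V, _, _, _, Q, g, L, _, _, y, hs, hg, hy, ho⟩ := h
  have hε := hs.eps
  obtain ⟨ι, _, Q', hs'⟩ := exists_sg F (n := m - n) (by omega) (sign_mul hε hδ)
  have h1 := hs.prod hs'
  rw [sign_cancel hε, Nat.add_sub_cancel' hnm.le] at h1
  refine ⟨V × (ι → F), inferInstance, inferInstance, inferInstance, prodForm Q Q',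
    g.prodMap (1 : Module.End F (ι → F)), L, inferInstance, inferInstance, y, h1, ?_, hy.prod _, ho⟩
  intro v
  rw [prodForm_apply, prodForm_apply, LinearMap.prodMap_apply, hg]
  rfl

end Tori

end Cfsg.Agent.H93.PReg.Orth
end
end

-- part: H383/Cov/Frame
section
prune_inst 0x5200000000002000200000500000002000400000004000400108000225820800008000100802000060080000001000800000000000000000000000000000800080080000000000000100000000000000000000000000000000000000000000000
set_option linter.all false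
open scoped Cfsg.Agent.FastGrp

-- part: H383/Cov/Model
section
/-!
# S2499, orthogonal families: models of the torus elements (helper383)

* `exists_neg` : a field `L` of degree `2 k` with a form of minus type and `u ∈ L` of order `q ^ k + 1` acting by
  isometries; `exists_pos` : `K × K`, `K` of degree `k`, plus type, `(u, u⁻¹)` of order `q ^ k - 1`;
* `irr_mul` : multiplications acting irreducibly;
* `split_inv` : `W ≤ V₁ × V₂` invariant under `(x₁, 1)`, `x₁` without fixed vectors, is a product;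
* `Sim X x` : the matrix `X` is the matrix of `x` in some basis; transfer of the data.
-/

set_option autoImplicit false
set_option linter.unusedSectionVars false
set_option linter.style.haveILetI false

namespace Cfsg.Agent.H383.Cov

open Module Cfsg QuadraticMap
open Cfsg.Agent.LieClassical.OrthCore Cfsg.Agent.LieClassical.OrthForms
open Cfsg.Agent.H93.PReg Cfsg.Agent.H93.PReg.Orth
open Cfsg.Agent.H182.Sign Cfsg.Agent.H182.Orth
open scoped MatrixGroups Matrix

section Ex

variable (F : Type) [Field F] [Fintype F]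

theorem exists_neg {k : ℕ} (hk : k ≠ 0) :
    ∃ (L : Type) (_ : Field L) (_ : Algebra F L) (_ : Finite L) (Q : QuadraticForm F L) (u : L),
      Sg Q k (-1) ∧ finrank F L = 2 * k ∧ orderOf u = Fintype.card F ^ k + 1 ∧ ∀ v, Q (u * v) = Q v := by
  obtain ⟨K, _, _, b, hKf, -, hK, -⟩ := Singer.exists_ext F k hk
  have := Fintype.ofFinite K
  obtain ⟨L, _, _, b', hLf, g, hL, hg⟩ := Singer.exists_ext K 2 two_ne_zero
  let _ : Algebra F L := ((algebraMap K L).comp (algebraMap F K)).toAlgebra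
  have : IsScalarTower F K L := IsScalarTower.of_algebraMap_eq fun _ => rfl
  have hKc : Fintype.card K = Fintype.card F ^ k := by rw [← hK, Nat.card_eq_fintype_card]
  have hq : 2 ≤ Fintype.card K := Fintype.one_lt_card
  have hrk : Module.finrank F K = k := by rw [Module.finrank_eq_card_basis b, Fintype.card_fin]
  have hs := (sg_normQ b').res (F := F)
  rw [hrk, mul_one] at hs
  have hnorm : Algebra.norm K ((g : L) ^ (Fintype.card K - 1)) = 1 := by
    rw [map_pow]
    apply FiniteField.pow_card_sub_one_eq_one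
    rw [Ne, Algebra.norm_eq_zero_iff_of_basis b']
    exact g.ne_zero
  have ho : orderOf ((g : L) ^ (Fintype.card K - 1)) = Fintype.card F ^ k + 1 := by
    rw [← Units.val_pow_eq_pow_val, orderOf_units, orderOf_pow_of_dvd (by omega), hg, ← hKc]
    · have h1 : Fintype.card K ^ 2 - 1 = (Fintype.card K + 1) * (Fintype.card K - 1) := by
        have := Nat.sq_sub_sq (Fintype.card K) 1
        simpa using this
      rw [h1, Nat.mul_div_cancel _ (by omega)]
    · rw [hg]
      simpa using Nat.sub_dvd_pow_sub_pow (Fintype.card K) 1 2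
  refine ⟨L, inferInstance, inferInstance, inferInstance, traceForm F (normQ b'),
    (g : L) ^ (Fintype.card K - 1), hs, hs.dim, ho, ?_⟩
  intro v
  rw [traceForm_apply, traceForm_apply]
  congr 1
  rw [normQ_apply, normQ_apply, map_mul, hnorm, one_mul]

theorem exists_pos {k : ℕ} (hk : k ≠ 0) :
    ∃ (K : Type) (_ : Field K) (_ : Algebra F K) (_ : Finite K) (Q : QuadraticForm F (K × K)) (u : Kˣ),
      Sg Q k 1 ∧ finrank F K = k ∧ orderOf u = Fintype.card F ^ k - 1 ∧
      ∀ (w : Kˣ) (v : K × K), Q ((w : K) * v.1, ((w⁻¹ : Kˣ) : K) * v.2) = Q v := by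
  obtain ⟨K, _, _, b, hKf, y, hK, hy⟩ := Singer.exists_ext F k hk
  have hrk : Module.finrank F K = k := by rw [Module.finrank_eq_card_basis b, Fintype.card_fin]
  have hs := (sg_hypForm (F := K)).res (F := F)
  rw [hrk, mul_one] at hs
  refine ⟨K, inferInstance, inferInstance, inferInstance, traceForm F (hypForm K), y, hs, hrk, hy, ?_⟩
  intro w v
  rw [traceForm_apply, traceForm_apply]
  congr 1
  show (w : K) * v.1 * (((w⁻¹ : Kˣ) : K) * v.2) = v.1 * v.2
  have h1 : (w : K) * ((w⁻¹ : Kˣ) : K) = 1 := Units.mul_inv w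
  linear_combination v.1 * v.2 * h1

end Ex

/-- a multiplication of large order acts irreducibly -/
theorem adjoin_eq_top {F L : Type*} [Field F] [Finite F] [Field L] [Finite L] [Algebra F L] {ζ : L}
    (h : ∀ j, 1 ≤ j → j < finrank F L → ¬ orderOf ζ ∣ Nat.card F ^ j - 1) (h0 : ζ ≠ 0) :
    Algebra.adjoin F ({ζ} : Set L) = ⊤ := by
  have hadj : IntermediateField.adjoin F ({ζ} : Set L) = ⊤ := by
    set E := IntermediateField.adjoin F ({ζ} : Set L) with hE
    have hmem : ζ ∈ E := IntermediateField.mem_adjoin_simple_self F _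
    have hcE : Nat.card E = Nat.card F ^ Module.finrank F E := Module.natCard_eq_pow_finrank (K := F) (V := E)
    have hpow : ζ ^ (Nat.card E - 1) = 1 := by
      have : Fintype E := Fintype.ofFinite E
      have h1 := FiniteField.pow_card_sub_one_eq_one (⟨ζ, hmem⟩ : E) (by
        intro h0'
        exact h0 (congrArg Subtype.val h0'))
      rw [Nat.card_eq_fintype_card]
      exact congrArg Subtype.val h1
    have h3 : orderOf ζ ∣ Nat.card F ^ Module.finrank F E - 1 := by
      rw [← hcE]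
      exact orderOf_dvd_of_pow_eq_one hpow
    have h4 : 1 ≤ Module.finrank F E := Module.finrank_pos
    have h5 : ¬ Module.finrank F E < finrank F L := fun hlt => h _ h4 hlt h3
    have h6 : Module.finrank F E ≤ finrank F L := Submodule.finrank_le E.toSubmodule
    exact IntermediateField.eq_of_le_of_finrank_eq le_top (by rw [IntermediateField.finrank_top']; omega)
  rw [← IntermediateField.adjoin_simple_toSubalgebra_of_isAlgebraic (IsAlgebraic.of_finite F ζ), hadj]
  rfl

theorem irr_mul {F L : Type*} [Field F] [Finite F] [Field L] [Finite L] [Algebra F L] {ζ : L}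
    (h : ∀ j, 1 ≤ j → j < finrank F L → ¬ orderOf ζ ∣ Nat.card F ^ j - 1) (h0 : ζ ≠ 0)
    {W : Submodule F L} (hW : ∀ w ∈ W, ζ * w ∈ W) : W = ⊥ ∨ W = ⊤ := by
  by_cases hb : W = ⊥
  · exact Or.inl hb
  right
  obtain ⟨w, hw, hw0⟩ := (Submodule.ne_bot_iff W).1 hb
  let S : Subalgebra F L :=
    { carrier := {a | ∀ w ∈ W, a * w ∈ W}
      mul_mem' := by
        intro a c ha hc w hw
        rw [mul_assoc]
        exact ha _ (hc w hw)
      add_mem' := by
        intro a c ha hc w hw
        rw [add_mul]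
        exact W.add_mem (ha w hw) (hc w hw)
      algebraMap_mem' := by
        intro r w hw
        rw [← Algebra.smul_def]
        exact W.smul_mem r hw }
  have h1 : Algebra.adjoin F ({ζ} : Set L) ≤ S := by
    apply Algebra.adjoin_le
    intro a ha
    rw [Set.mem_singleton_iff.1 ha]
    exact hW
  rw [adjoin_eq_top h h0] at h1
  rw [eq_top_iff]
  intro v _
  have h2 : v * w⁻¹ ∈ S := h1 trivial
  have h3 := h2 w hw
  rwa [mul_assoc, inv_mul_cancel₀ hw0, mul_one] at h3

/-- if the multiplication by `ζ⁻¹` on an extension of odd degree has the same minimal polynomial, `ζ ^ 2 = 1` -/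
theorem sq_of_root {F K : Type*} [Field F] [Field K] [Finite K] [Algebra F K] (hodd : Odd (finrank F K)) {ζ : K}
    (h0 : ζ ≠ 0) (h : Polynomial.aeval ζ⁻¹ (minpoly F ζ) = 0) : ζ * ζ = 1 := by
  have hF : Finite F := Finite.of_injective (algebraMap F K) (algebraMap F K).injective
  have hint : IsIntegral F ζ := IsIntegral.of_finite F ζ
  have hmin : minpoly F ζ⁻¹ = minpoly F ζ := by
    have h1 := minpoly.eq_of_irreducible_of_monic (minpoly.irreducible hint) h (minpoly.monic hint)
    exact h1.symm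
  obtain ⟨σ, hσ⟩ := (Normal.minpoly_eq_iff_mem_orbit (F := F) (E := K) (x := ζ⁻¹) (y := ζ)).1 hmin
  have hσ1 : σ ζ = ζ⁻¹ := hσ
  have hcard : Nat.card (K ≃ₐ[F] K) = finrank F K := IsGalois.card_aut_eq_finrank F K
  have h2 : (σ ^ 2) ζ = ζ := by
    rw [pow_two, AlgEquiv.mul_apply, hσ1, map_inv₀, hσ1, inv_inv]
  have h3 : σ ^ finrank F K = 1 := by
    rw [← hcard]; exact pow_card_eq_one'
  obtain ⟨k, hk⟩ := hodd
  have h4 : σ = (σ ^ 2) ^ (k + 1) := by
    rw [← pow_mul, show 2 * (k + 1) = (2 * k + 1) + 1 by ring, pow_succ, ← hk, h3, one_mul]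
  have h5 : ∀ n : ℕ, ((σ ^ 2) ^ n) ζ = ζ := by
    intro n
    induction n with
    | zero => rw [pow_zero, AlgEquiv.one_apply]
    | succ n ih => rw [pow_succ, AlgEquiv.mul_apply, h2, ih]
  have h6 : σ ζ = ζ := by
    rw [h4]; exact h5 _
  rw [h6] at hσ1
  nth_rewrite 1 [hσ1]
  exact inv_mul_cancel₀ h0

section Split

variable {F V₁ V₂ : Type*} [Field F] [AddCommGroup V₁] [Module F V₁] [FiniteDimensional F V₁]
  [AddCommGroup V₂] [Module F V₂] [FiniteDimensional F V₂]

theorem split_inv {x₁ : Module.End F V₁} (hx : ∀ v, x₁ v = v → v = 0) {W : Submodule F (V₁ × V₂)}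
    (hW : ∀ w ∈ W, (x₁ w.1, w.2) ∈ W) :
    finrank F W = finrank F (W.comap (LinearMap.inl F V₁ V₂)) + finrank F (W.comap (LinearMap.inr F V₁ V₂)) := by
  set A : Submodule F V₁ := W.map (LinearMap.fst F V₁ V₂) with hA
  set B : Submodule F V₁ := W.comap (LinearMap.inl F V₁ V₂) with hB
  have hinj : Function.Injective ⇑(x₁ - 1 : Module.End F V₁) := by
    rw [← LinearMap.ker_eq_bot, LinearMap.ker_eq_bot']
    intro v hv
    exact hx v (sub_eq_zero.1 hv)
  have hBA : B ≤ A := by
    intro v hv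
    exact ⟨(v, 0), hv, rfl⟩
  have hAB : A.map (x₁ - 1) ≤ B := by
    rintro _ ⟨_, ⟨w, hw, rfl⟩, rfl⟩
    have h1 := W.sub_mem (hW w hw) hw
    rw [hB, Submodule.mem_comap]
    have h2 : LinearMap.inl F V₁ V₂ ((x₁ - 1) (LinearMap.fst F V₁ V₂ w)) = (x₁ w.1, w.2) - w := by
      refine Prod.ext rfl ?_
      change (0 : V₂) = w.2 - w.2
      rw [sub_self]
    rw [h2]
    exact h1
  have hAeq : B = A := by
    apply Submodule.eq_of_le_of_finrank_le hBA
    rw [(Submodule.equivMapOfInjective (x₁ - 1 : Module.End F V₁) hinj A).finrank_eq]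
    exact Submodule.finrank_mono hAB
  have hW1 : ∀ w ∈ W, ((w.1, 0) : V₁ × V₂) ∈ W := by
    intro w hw
    have h1 : w.1 ∈ A := ⟨w, hw, rfl⟩
    rw [← hAeq] at h1
    exact h1
  have hW2 : ∀ w ∈ W, ((0, w.2) : V₁ × V₂) ∈ W := by
    intro w hw
    have h1 := W.sub_mem hw (hW1 w hw)
    have h2 : w - (w.1, 0) = (0, w.2) := Prod.ext (sub_self _) (sub_zero _)
    rwa [h2] at h1
  let e : W ≃ₗ[F] (B × W.comap (LinearMap.inr F V₁ V₂)) :=
    { toFun := fun w => (⟨w.1.1, hW1 w.1 w.2⟩, ⟨w.1.2, hW2 w.1 w.2⟩)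
      map_add' := fun _ _ => rfl
      map_smul' := fun _ _ => rfl
      invFun := fun p => ⟨(p.1.1, p.2.1), by
        have h1 := W.add_mem p.1.2 p.2.2
        have h2 : LinearMap.inl F V₁ V₂ p.1 + LinearMap.inr F V₁ V₂ p.2 = (p.1.1, p.2.1) :=
          Prod.ext (add_zero _) (zero_add _)
        rwa [h2] at h1⟩
      left_inv := fun _ => rfl
      right_inv := fun _ => rfl }
  rw [e.finrank_eq, Module.finrank_prod]

end Split

theorem exists_pow_left {A B : Type*} [Monoid A] [Monoid B] {x : A} {y : B} {M N : ℕ} (hx : x ^ M = 1)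
    (hy : y ^ N = 1) (h : M.Coprime N) : ∃ j : ℕ, x ^ j = x ∧ y ^ j = 1 := by
  obtain ⟨j, h1, h2⟩ := Nat.chineseRemainder h 1 0
  refine ⟨j, ?_, ?_⟩
  · have h3 := pow_eq_pow_of_modEq h1 hx
    rwa [pow_one] at h3
  · have h3 := pow_eq_pow_of_modEq h2 hy
    rwa [pow_zero] at h3

/-- powers of a pair of elements of coprime orders -/
theorem exists_pow_right {A B : Type*} [Monoid A] [Monoid B] {x : A} {y : B} {M N : ℕ} (hx : x ^ M = 1)
    (hy : y ^ N = 1) (h : M.Coprime N) : ∃ j : ℕ, x ^ j = 1 ∧ y ^ j = y := by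
  obtain ⟨j, h1, h2⟩ := exists_pow_left hy hx h.symm
  exact ⟨j, h2, h1⟩

end Cfsg.Agent.H383.Cov
end

-- part: H383/Cov/Sim
section
/-!
# S2499, orthogonal families: from endomorphisms of models to elements of `omegaGL` (helper383)

* `Sim X x`, `Dims X S`; `exists_sim` : an isometry of odd order of a form of the same dimension and type gives an
  element of `omegaGL Q`.
-/

set_option autoImplicit false
set_option linter.unusedSectionVars false
set_option linter.style.haveILetI false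

namespace Cfsg.Agent.H383.Cov

open Module Cfsg Cfsg.Geo QuadraticMap
open Cfsg.Agent.LieClassical.OrthCore Cfsg.Agent.LieClassical.OrthForms
open Cfsg.Agent.H182.Sign
open scoped MatrixGroups Matrix

variable {ι : Type} [Fintype ι] [DecidableEq ι] {F : Type} [Field F] [Finite F]

/-- all subspaces invariant under `X` have dimension in `S` -/
def Dims (X : GL ι F) (S : Set ℕ) : Prop :=
  ∀ W : Submodule F (ι → F), (∀ w ∈ W, (X : Matrix ι ι F) *ᵥ w ∈ W) → finrank F W ∈ S

theorem Dims.conj {X : GL ι F} {S : Set ℕ} (h : Dims X S) (g : GL ι F) : Dims (g * X * g⁻¹) S := by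
  intro W hW
  have h1 := h (W.comap (eqv g : (ι → F) →ₗ[F] (ι → F))) (by
    intro w hw
    rw [Submodule.mem_comap] at hw ⊢
    change (g : Matrix ι ι F) *ᵥ w ∈ W at hw
    change (g : Matrix ι ι F) *ᵥ ((X : Matrix ι ι F) *ᵥ w) ∈ W
    have h2 := hW _ hw
    rw [Units.val_mul, Units.val_mul, Matrix.mulVec_mulVec, mul_assoc, ← Units.val_mul g⁻¹ g, inv_mul_cancel,
      Units.val_one, mul_one, ← Matrix.mulVec_mulVec] at h2
    exact h2)
  rw [Submodule.comap_equiv_eq_map_symm] at h1
  rwa [LinearEquiv.finrank_map_eq (eqv g).symm W] at h1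

section Sim

variable {V : Type*} [AddCommGroup V] [Module F V]

/-- `X` is the matrix of `x` in some basis -/
def Sim (X : GL ι F) (x : Module.End F V) : Prop :=
  ∃ e : (ι → F) ≃ₗ[F] V, ∀ v, e ((X : Matrix ι ι F) *ᵥ v) = x (e v)

theorem Sim.pow {X : GL ι F} {x : Module.End F V} (h : Sim X x) (n : ℕ) : Sim (X ^ n) (x ^ n) := by
  obtain ⟨e, he⟩ := h
  refine ⟨e, ?_⟩
  induction n with
  | zero => intro v; rw [pow_zero, pow_zero, Units.val_one, Matrix.one_mulVec]; rfl
  | succ n ih =>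
    intro v
    rw [pow_succ', pow_succ', Units.val_mul, ← Matrix.mulVec_mulVec, he, ih, Module.End.mul_apply]

theorem Sim.eq_one_iff {X : GL ι F} {x : Module.End F V} (h : Sim X x) : X = 1 ↔ x = 1 := by
  obtain ⟨e, he⟩ := h
  constructor
  · rintro rfl
    apply LinearMap.ext
    intro v
    have h1 := he (e.symm v)
    rw [Units.val_one, Matrix.one_mulVec, e.apply_symm_apply] at h1
    exact h1.symm
  · rintro rfl
    apply Units.ext
    apply Matrix.toLin'.injective
    apply LinearMap.ext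
    intro v
    apply e.injective
    rw [Matrix.toLin'_apply, Matrix.toLin'_apply, Units.val_one, Matrix.one_mulVec, he]
    rfl

theorem Sim.pow_eq_one_iff {X : GL ι F} {x : Module.End F V} (h : Sim X x) (n : ℕ) : X ^ n = 1 ↔ x ^ n = 1 :=
  (h.pow n).eq_one_iff

theorem Sim.orderOf_eq {X : GL ι F} {x : Module.End F V} (h : Sim X x) : orderOf X = orderOf x :=
  Nat.dvd_antisymm (orderOf_dvd_of_pow_eq_one ((h.pow_eq_one_iff _).2 (pow_orderOf_eq_one x)))
    (orderOf_dvd_of_pow_eq_one ((h.pow_eq_one_iff _).1 (pow_orderOf_eq_one X)))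

theorem Sim.dims {X : GL ι F} {x : Module.End F V} (h : Sim X x) {S : Set ℕ}
    (hS : ∀ W : Submodule F V, (∀ w ∈ W, x w ∈ W) → finrank F W ∈ S) : Dims X S := by
  obtain ⟨e, he⟩ := h
  intro W hW
  rw [← LinearEquiv.finrank_map_eq e W]
  apply hS
  rintro _ ⟨w, hw, rfl⟩
  exact ⟨_, hW w hw, he w⟩

theorem Sim.rk {X : GL ι F} {x : Module.End F V} (h : Sim X x) :
    finrank F (LinearMap.range (Matrix.toLin' (X : Matrix ι ι F) - 1)) = finrank F (LinearMap.range (x - 1)) := by
  obtain ⟨e, he⟩ := h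
  rw [← LinearEquiv.finrank_map_eq e]
  have h1 : (LinearMap.range (Matrix.toLin' (X : Matrix ι ι F) - 1)).map (e : (ι → F) →ₗ[F] V) =
      LinearMap.range (x - 1) := by
    apply le_antisymm
    · rintro _ ⟨_, ⟨v, rfl⟩, rfl⟩
      refine ⟨e v, ?_⟩
      change x (e v) - e v = e ((X : Matrix ι ι F) *ᵥ v - v)
      rw [map_sub, he]
    · rintro _ ⟨v, rfl⟩
      refine ⟨_, ⟨e.symm v, rfl⟩, ?_⟩
      change e ((X : Matrix ι ι F) *ᵥ (e.symm v) - e.symm v) = x v - v
      rw [map_sub, he, e.apply_symm_apply]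
  rw [h1]

theorem Sim.aeval {X : GL ι F} {x : Module.End F V} {e : (ι → F) ≃ₗ[F] V}
    (he : ∀ v, e ((X : Matrix ι ι F) *ᵥ v) = x (e v)) (P : Polynomial F) (v : ι → F) :
    e (Polynomial.aeval (X : Matrix ι ι F) P *ᵥ v) = Polynomial.aeval x P (e v) := by
  induction P using Polynomial.induction_on' with
  | add p q hp hq => rw [map_add, map_add, Matrix.add_mulVec, map_add, hp, hq, LinearMap.add_apply]
  | monomial n a =>
    rw [Polynomial.aeval_monomial, Polynomial.aeval_monomial]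
    have h1 : ∀ n : ℕ, ∀ v, e ((X : Matrix ι ι F) ^ n *ᵥ v) = (x ^ n) (e v) := by
      intro n
      induction n with
      | zero => intro v; rw [pow_zero, pow_zero, Matrix.one_mulVec]; rfl
      | succ n ih => intro v; rw [pow_succ', pow_succ', ← Matrix.mulVec_mulVec, he, ih, Module.End.mul_apply]
    rw [← Algebra.smul_def, ← Algebra.smul_def, Matrix.smul_mulVec, map_smul, h1, LinearMap.smul_apply]

theorem Sim.ker {X : GL ι F} {x : Module.End F V} (h : Sim X x) (P : Polynomial F) :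
    finrank F (LinearMap.ker (Matrix.toLin' (Polynomial.aeval (X : Matrix ι ι F) P))) =
      finrank F (LinearMap.ker (Polynomial.aeval x P)) := by
  obtain ⟨e, he⟩ := h
  rw [← LinearEquiv.finrank_map_eq e]
  have h1 : (LinearMap.ker (Matrix.toLin' (Polynomial.aeval (X : Matrix ι ι F) P))).map (e : (ι → F) →ₗ[F] V) =
      LinearMap.ker (Polynomial.aeval x P) := by
    apply le_antisymm
    · rintro _ ⟨v, hv, rfl⟩
      rw [SetLike.mem_coe, LinearMap.mem_ker, Matrix.toLin'_apply] at hv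
      rw [LinearMap.mem_ker]
      change Polynomial.aeval x P (e v) = 0
      rw [← Sim.aeval he, hv, map_zero]
    · intro v hv
      refine ⟨e.symm v, ?_, e.apply_symm_apply v⟩
      rw [SetLike.mem_coe, LinearMap.mem_ker, Matrix.toLin'_apply]
      apply e.injective
      rw [Sim.aeval he, e.apply_symm_apply, map_zero]
      exact hv
  rw [h1]

end Sim

theorem mem_omegaGL_of_odd {Q : QuadraticForm F (ι → F)} (hQ : Nondeg Q) (h5 : 5 ≤ Fintype.card ι) {X : GL ι F}
    (hX : X ∈ isometryGroup F ⇑Q) {M : ℕ} (hM : Odd M) (hXM : X ^ M = 1) : X ∈ omegaGL ⇑Q := by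
  obtain ⟨k, rfl⟩ := hM
  have h1 : X = X ^ (k + 1) * X ^ (k + 1) := by
    rw [← pow_add, show k + 1 + (k + 1) = 2 * k + 1 + 1 by ring, pow_succ, hXM, one_mul]
  let g : isometryGroup F ⇑Q := ⟨X ^ (k + 1), (isometryGroup F ⇑Q).pow_mem hX _⟩
  refine ⟨g * g, Cfsg.Agent.H377.mul_self_mem_Omega Q hQ h5 g, ?_⟩
  rw [h1]
  rfl

/-- elements of `omegaGL Q` from isometries of odd order of another model -/
theorem exists_sim {Q : QuadraticForm F (ι → F)} {n : ℕ} {ε : ℤ} (hQ : Sg Q n ε) (h5 : 5 ≤ Fintype.card ι)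
    {V : Type} [AddCommGroup V] [Module F V] [Finite V] {Q' : QuadraticForm F V} (hQ' : Sg Q' n ε)
    {x : Module.End F V} (hx : ∀ v, Q' (x v) = Q' v) {M : ℕ} (hM : Odd M) (hxM : x ^ M = 1) :
    ∃ X : GL ι F, X ∈ omegaGL ⇑Q ∧ Sim X x := by
  obtain ⟨e, he⟩ := Sg.exists_equiv hQ hQ'
  have hM0 : M ≠ 0 := fun h => by rw [h] at hM; exact absurd hM (by decide)
  let φ : Module.End F V ≃ₐ[F] Matrix ι ι F := (e.symm.conjAlgEquiv F).trans LinearMap.toMatrixAlgEquiv'
  have hφ : ∀ (S : Module.End F V) (v : ι → F), (φ S).mulVec v = e.symm (S (e v)) := by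
    intro S v
    show (LinearMap.toMatrix' (e.symm.conj S)).mulVec v = _
    rw [LinearMap.toMatrix'_mulVec]
    rfl
  have hunit : IsUnit (φ x) := by
    apply IsUnit.of_pow_eq_one (n := M) _ hM0
    rw [← map_pow, hxM, map_one]
  obtain ⟨X, hX⟩ := hunit
  have hsim : ∀ v, e ((X : Matrix ι ι F) *ᵥ v) = x (e v) := by
    intro v
    rw [hX, hφ, e.apply_symm_apply]
  have hmem : X ∈ isometryGroup F ⇑Q := by
    rw [Cfsg.Agent.LieClassical.OrthFinite.mem_isometryGroup_iff]
    intro v
    rw [← he, hsim, hx, he]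
  refine ⟨X, mem_omegaGL_of_odd hQ.nondeg h5 hmem hM ?_, e, hsim⟩
  exact (Sim.pow_eq_one_iff ⟨e, hsim⟩ M).2 hxM

end Cfsg.Agent.H383.Cov
end

-- part: H383/Cov/Frame
section
/-!
# S2499, orthogonal families: the frame (helper383)

`noTwo_of_data` : three classes `A`, `B`, `C` of `Ω(Q)` with powers of `A`, `B` of the type of S5948 (`NumEl`), pairwise
disjoint sets of dimensions of invariant subspaces, `a`, `b` of different parity, and an odd dimensional kernel of a
polynomial in `C`, are pairwise incompatible, so `NoTwo (Ω(Q))`.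
-/

set_option autoImplicit false
set_option linter.unusedSectionVars false

namespace Cfsg.Agent.H383.Cov

open Module Cfsg Cfsg.Geo
open Cfsg.Agent.H278.Cov (Red Ext Num Av Inc NoTwo noTwo_of_three)
open scoped MatrixGroups Matrix

variable {ι : Type} [Fintype ι] [DecidableEq ι] {F : Type} [Field F] [Fintype F]

/-- the irreducible overgroups of the elements of S5948 in `Ω(Q)` (task COV-OG-O) -/
def OgO (Q : (ι → F) → F) : Prop :=
  ∀ (k : ℕ) (H : Subgroup (GL ι F)), H ≤ omegaGL Q → H ≠ omegaGL Q → ∀ g ∈ H,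
    Num (Fintype.card F) (Fintype.card ι) k (orderOf g) → Red H ∨ Ext (Nat.gcd (Fintype.card ι) k) H

/-- `Ω(Q)` as a group of matrices -/
def emb (Q : (ι → F) → F) : Omega F Q →* GL ι F := (isometryGroup F Q).subtype.comp (Omega F Q).subtype

theorem emb_injective (Q : (ι → F) → F) : Function.Injective (emb Q) := by
  intro x y h
  exact Subtype.ext (Subtype.ext h)

theorem range_emb (Q : (ι → F) → F) : (emb Q).range = omegaGL Q := by
  rw [emb, MonoidHom.range_comp, Subgroup.range_subtype]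
  rfl

theorem map_emb_le {Q : (ι → F) → F} (L : Subgroup (Omega F Q)) : L.map (emb Q) ≤ omegaGL Q := by
  rw [← range_emb, MonoidHom.range_eq_map]
  exact Subgroup.map_mono le_top

theorem map_emb_ne {Q : (ι → F) → F} {L : Subgroup (Omega F Q)} (hL : L ≠ ⊤) : L.map (emb Q) ≠ omegaGL Q := by
  intro h
  apply hL
  rw [← range_emb, MonoidHom.range_eq_map] at h
  exact Subgroup.map_injective (emb_injective Q) h

theorem omegaGL_le (Q : (ι → F) → F) : omegaGL Q ≤ isometryGroup F Q := by
  rintro _ ⟨x, -, rfl⟩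
  exact x.2

/-- the elements of S5948 with an irreducible block of minus type -/
structure NumEl (a : ℕ) (x : GL ι F) : Prop where
  num : Num (Fintype.card F) (Fintype.card ι) (2 * a) (orderOf x)
  blk : Blk (2 * a) x
  odd : Odd (orderOf x)
  dvd : orderOf x ∣ Nat.card F ^ a + 1

theorem NumEl.conj {a : ℕ} {x : GL ι F} (h : NumEl a x) (g : GL ι F) : NumEl a (g * x * g⁻¹) :=
  ⟨by rw [orderOf_conj]; exact h.num, h.blk.conj g, by rw [orderOf_conj]; exact h.odd,
    by rw [orderOf_conj]; exact h.dvd⟩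

theorem ker_conj (g x : GL ι F) (P : Polynomial F) :
    finrank F (LinearMap.ker (Matrix.toLin' (Polynomial.aeval ((g * x * g⁻¹ : GL ι F) : Matrix ι ι F) P))) =
      finrank F (LinearMap.ker (Matrix.toLin' (Polynomial.aeval (x : Matrix ι ι F) P))) := by
  have h : Sim (g * x * g⁻¹) (Matrix.toLin' (x : Matrix ι ι F)) := by
    refine ⟨(eqv g).symm, fun v => ?_⟩
    rw [eqv_symm_apply, eqv_symm_apply, Matrix.toLin'_apply, Units.val_mul, Units.val_mul, Matrix.mulVec_mulVec,
      Matrix.mulVec_mulVec, ← mul_assoc, ← mul_assoc, ← Units.val_mul, inv_mul_cancel, Units.val_one, one_mul]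
  have h' : Sim x (Matrix.toLin' (x : Matrix ι ι F)) := ⟨LinearEquiv.refl F _, fun v => rfl⟩
  rw [h.ker, h'.ker]

/-- two classes are incompatible -/
theorem inc_of {Q : (ι → F) → F} {A B : Omega F Q}
    (h : ∀ H : Subgroup (GL ι F), H ≤ omegaGL Q → H ≠ omegaGL Q → ∀ g g' : GL ι F,
      g * emb Q A * g⁻¹ ∈ H → g' * emb Q B * g'⁻¹ ∈ H → False) : Inc A B := by
  intro L hL
  by_contra hcon
  rw [not_or] at hcon
  obtain ⟨g, hg⟩ := H278.Cov.not_av hcon.1
  obtain ⟨g', hg'⟩ := H278.Cov.not_av hcon.2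
  refine h (L.map (emb Q)) (map_emb_le L) (map_emb_ne hL) (emb Q g) (emb Q g') ⟨_, hg, ?_⟩ ⟨_, hg', ?_⟩
  · rw [map_mul, map_mul, map_inv]
  · rw [map_mul, map_mul, map_inv]

/-- reducible groups and dimensions -/
theorem red_dims {H : Subgroup (GL ι F)} (hR : Red H) {x y : GL ι F} (hx : x ∈ H) (hy : y ∈ H) {S T : Set ℕ}
    (dx : Dims x S) (dy : Dims y T) (hST : ∀ d, 0 < d → d < Fintype.card ι → d ∈ S → d ∈ T → False) : False := by
  obtain ⟨W, h0, h1, hW⟩ := hR
  have hinv : ∀ z ∈ H, ∀ w ∈ W, (z : Matrix ι ι F) *ᵥ w ∈ W := fun z hz w hw => (hW hz w).1 hw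
  refine hST (finrank F W) ?_ ?_ (dx W (hinv x hx)) (dy W (hinv y hy))
  · exact Nat.pos_of_ne_zero fun h => h0 (Submodule.finrank_eq_zero.1 h)
  · rw [← Module.finrank_fintype_fun_eq_card (R := F)]
    exact Submodule.finrank_lt h1

theorem pow_conj (g x : GL ι F) (n : ℕ) : (g * x * g⁻¹) ^ n = g * x ^ n * g⁻¹ := conj_pow

/-- **The frame.** -/
theorem noTwo_of_data [Nonempty ι] {Q : (ι → F) → F} (hQ : IsNondegenerateQuadraticForm Q) (og : OgO Q) {A B C : GL ι F}
    (hA : A ∈ omegaGL Q) (hB : B ∈ omegaGL Q) (hC : C ∈ omegaGL Q) {a b i j : ℕ} (ha : 1 ≤ a) (hb : 1 ≤ b)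
    (hpar : Even a ∧ Odd b ∨ Odd a ∧ Even b)
    (hgA : ∀ r : ℕ, r.Prime → r ∣ Nat.gcd (Fintype.card ι) (2 * a) → r = 2)
    (hgB : ∀ r : ℕ, r.Prime → r ∣ Nat.gcd (Fintype.card ι) (2 * b) → r = 2)
    (hAi : NumEl a (A ^ i)) (hBj : NumEl b (B ^ j)) {SA SB SC : Set ℕ} (dA : Dims A SA) (dB : Dims B SB)
    (dC : Dims C SC) (hAB : ∀ d, 0 < d → d < Fintype.card ι → d ∈ SA → d ∈ SB → False)
    (hAC : ∀ d, 0 < d → d < Fintype.card ι → d ∈ SA → d ∈ SC → False)
    (hBC : ∀ d, 0 < d → d < Fintype.card ι → d ∈ SB → d ∈ SC → False)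
    (hCo : Odd (orderOf C)) (P : Polynomial F)
    (hker : Odd (finrank F (LinearMap.ker (Matrix.toLin' (Polynomial.aeval (C : Matrix ι ι F) P))))) :
    NoTwo (Omega F Q) := by
  obtain ⟨A', rfl⟩ : ∃ A', emb Q A' = A := by rw [← range_emb] at hA; exact hA
  obtain ⟨B', rfl⟩ : ∃ B', emb Q B' = B := by rw [← range_emb] at hB; exact hB
  obtain ⟨C', rfl⟩ : ∃ C', emb Q C' = C := by rw [← range_emb] at hC; exact hC
  have key : ∀ {x : GL ι F} {a i : ℕ}, (∀ r : ℕ, r.Prime → r ∣ Nat.gcd (Fintype.card ι) (2 * a) → r = 2) →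
      NumEl a (x ^ i) → ∀ H : Subgroup (GL ι F), H ≤ omegaGL Q → H ≠ omegaGL Q → ∀ g : GL ι F,
      g * x * g⁻¹ ∈ H → Red H ∨ ∃ E : Subalgebra F (Matrix ι ι F), IsFieldSubalgebra 2 E ∧
        H ≤ subalgebraNormalizer E := by
    intro x a i hg hx H hle hne g hgx
    rcases og _ H hle hne _ (H.pow_mem hgx i) (by rw [pow_conj]; exact (hx.conj g).num) with h | ⟨r, E, hr, hrd, hE, hN⟩
    · exact Or.inl h
    · obtain rfl := hg r hr hrd
      exact Or.inr ⟨E, hE, hN⟩
  have hkill : ∀ (H : Subgroup (GL ι F)) (E : Subalgebra F (Matrix ι ι F)), IsFieldSubalgebra 2 E →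
      H ≤ subalgebraNormalizer E → ∀ g : GL ι F, g * emb Q C' * g⁻¹ ∈ H → False := by
    intro H E hE hN g hg
    have h1 := kill hE (hN hg) (by rw [orderOf_conj]; exact Nat.coprime_two_right.2 hCo) P
    rw [ker_conj] at h1
    exact (Nat.not_even_iff_odd.2 hker) (even_iff_two_dvd.2 h1)
  refine noTwo_of_three (x := A') (y := B') (z := C') (inc_of fun H hle hne g g' h1 h2 => ?_)
    (inc_of fun H hle hne g g' h1 h2 => ?_) (inc_of fun H hle hne g g' h1 h2 => ?_)
  · by_cases hR : Red H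
    · exact red_dims hR h1 h2 (dA.conj g) (dB.conj g') hAB
    obtain ⟨E, hE, hN⟩ := (key hgA hAi H hle hne g h1).resolve_left hR
    have hiso : H ≤ isometryGroup F Q := hle.trans (omegaGL_le Q)
    have hx := H.pow_mem h1 i
    have hy := H.pow_mem h2 j
    rw [pow_conj] at hx hy
    have nx := hAi.conj g
    have ny := hBj.conj g'
    rcases hpar with ⟨he, ho⟩ | ⟨ho, he⟩
    · exact parity hQ hiso hR hE hN hx hy ha hb he ho nx.odd ny.odd nx.dvd ny.dvd nx.blk ny.blk
    · exact parity hQ hiso hR hE hN hy hx hb ha he ho ny.odd nx.odd ny.dvd nx.dvd ny.blk nx.blk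
  · rcases key hgB hBj H hle hne g h1 with hR | ⟨E, hE, hN⟩
    · exact red_dims hR h1 h2 (dB.conj g) (dC.conj g') hBC
    · exact hkill H E hE hN g' h2
  · rcases key hgA hAi H hle hne g h1 with hR | ⟨E, hE, hN⟩
    · exact red_dims hR h1 h2 (dA.conj g) (dC.conj g') hAC
    · exact hkill H E hE hN g' h2

end Cfsg.Agent.H383.Cov
end

private theorem dce_3dc993ee6ce6 : _root_.True := by
  try have : _root_.True := by simp only [_root_.Cfsg.Agent.H383.Cov.emb.eq_1]
  exact _root_.True.intro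
end

-- part: H383/Cov/PlusC
section
prune_inst 0x20004050220000000000800300000044000080000300002800014201080000854006000c8020054802000008000020021000804010000000000000000300000000100400400000040006000000000000000000000000000000000000000000000000000
set_option linter.all false
open scoped Cfsg.Agent.FastGrp

-- part: H383/Cov/Pair
section
/-!
# S2499, orthogonal families: pairs of endomorphisms (helper383)

* `pair_dims` : dimensions of subspaces invariant under `(x₁, x₂)`, coprime orders;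
* `dg w` : `(w, w⁻¹)` on `K × K`; `ker_dg`; `aeval_pair`.
-/

set_option autoImplicit false
set_option linter.unusedSectionVars false
set_option linter.style.haveILetI false

namespace Cfsg.Agent.H383.Cov

open Module Cfsg Cfsg.Geo QuadraticMap
open Cfsg.Agent.LieClassical.OrthCore Cfsg.Agent.LieClassical.OrthForms
open Cfsg.Agent.H182.Sign
open Cfsg.Agent.H278.Cov (Red Ext Num Av Inc NoTwo)
open scoped MatrixGroups Matrix

section Pair

variable {F V₁ V₂ : Type*} [Field F] [AddCommGroup V₁] [Module F V₁] [FiniteDimensional F V₁]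
  [AddCommGroup V₂] [Module F V₂] [FiniteDimensional F V₂]

theorem pair_pow (x₁ : Module.End F V₁) (x₂ : Module.End F V₂) (n : ℕ) :
    (x₁.prodMap x₂ : Module.End F (V₁ × V₂)) ^ n = (x₁ ^ n).prodMap (x₂ ^ n) := by
  induction n with
  | zero => rfl
  | succ n ih => rw [pow_succ', ih, pow_succ', pow_succ']; rfl

theorem inv_pow {V : Type*} [AddCommGroup V] [Module F V] {x : Module.End F V} {W : Submodule F V}
    (hW : ∀ w ∈ W, x w ∈ W) (n : ℕ) : ∀ w ∈ W, (x ^ n) w ∈ W := by
  induction n with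
  | zero => intro w hw; exact hw
  | succ n ih => intro w hw; rw [pow_succ', Module.End.mul_apply]; exact hW _ (ih w hw)

/-- dimensions of subspaces invariant under a pair -/
theorem pair_dims {x₁ : Module.End F V₁} {x₂ : Module.End F V₂} {M N : ℕ} (h₁ : x₁ ^ M = 1) (h₂ : x₂ ^ N = 1)
    (hc : M.Coprime N) (hf : ∀ v, x₁ v = v → v = 0) {S₁ S₂ : Set ℕ}
    (d₁ : ∀ W : Submodule F V₁, (∀ w ∈ W, x₁ w ∈ W) → finrank F W ∈ S₁)
    (d₂ : ∀ W : Submodule F V₂, (∀ w ∈ W, x₂ w ∈ W) → finrank F W ∈ S₂) {W : Submodule F (V₁ × V₂)}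
    (hW : ∀ w ∈ W, (x₁.prodMap x₂ : Module.End F (V₁ × V₂)) w ∈ W) :
    ∃ s ∈ S₁, ∃ t ∈ S₂, finrank F W = s + t := by
  obtain ⟨j, hj1, hj2⟩ := exists_pow_left h₁ h₂ hc
  obtain ⟨k, hk1, hk2⟩ := exists_pow_right h₁ h₂ hc
  have hWj : ∀ w ∈ W, (x₁ w.1, w.2) ∈ W := by
    intro w hw
    have h := inv_pow hW j w hw
    rw [pair_pow, hj1, hj2] at h
    exact h
  have hWk : ∀ w ∈ W, (w.1, x₂ w.2) ∈ W := by
    intro w hw
    have h := inv_pow hW k w hw
    rw [pair_pow, hk1, hk2] at h
    exact h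
  refine ⟨_, d₁ (W.comap (LinearMap.inl F V₁ V₂)) ?_, _, d₂ (W.comap (LinearMap.inr F V₁ V₂)) ?_, split_inv hf hWj⟩
  · intro w hw
    exact hWj _ hw
  · intro w hw
    exact hWk _ hw

theorem range_pair {x₁ : Module.End F V₁} (hf : ∀ v, x₁ v = v → v = 0) :
    finrank F (LinearMap.range ((x₁.prodMap 1 : Module.End F (V₁ × V₂)) - 1)) = finrank F V₁ := by
  have hinj : Function.Injective ⇑(x₁ - 1 : Module.End F V₁) := by
    rw [← LinearMap.ker_eq_bot, LinearMap.ker_eq_bot']
    intro v hv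
    exact hf v (sub_eq_zero.1 hv)
  have hsurj : Function.Surjective ⇑(x₁ - 1 : Module.End F V₁) := LinearMap.injective_iff_surjective.1 hinj
  have h1 : LinearMap.range ((x₁.prodMap 1 : Module.End F (V₁ × V₂)) - 1) =
      LinearMap.range (LinearMap.inl F V₁ V₂) := by
    apply le_antisymm
    · rintro _ ⟨v, rfl⟩
      refine ⟨(x₁ - 1) v.1, ?_⟩
      refine Prod.ext rfl ?_
      change (0 : V₂) = v.2 - v.2
      rw [sub_self]
    · rintro _ ⟨v, rfl⟩
      obtain ⟨u, hu⟩ := hsurj v
      refine ⟨(u, 0), ?_⟩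
      refine Prod.ext hu ?_
      change (0 : V₂) - 0 = 0
      rw [sub_self]
  rw [h1, LinearMap.finrank_range_of_inj LinearMap.inl_injective]

theorem aeval_pair (x₁ : Module.End F V₁) (x₂ : Module.End F V₂) (P : Polynomial F) :
    Polynomial.aeval (x₁.prodMap x₂ : Module.End F (V₁ × V₂)) P =
      (Polynomial.aeval x₁ P).prodMap (Polynomial.aeval x₂ P) := by
  induction P using Polynomial.induction_on' with
  | add p q hp hq => rw [map_add, map_add, map_add, hp, hq]; rfl
  | monomial n a =>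
    rw [Polynomial.aeval_monomial, Polynomial.aeval_monomial, Polynomial.aeval_monomial, pair_pow,
      ← Algebra.smul_def, ← Algebra.smul_def, ← Algebra.smul_def]
    rfl

theorem finrank_prod' (A : Submodule F V₁) (B : Submodule F V₂) :
    finrank F (A.prod B : Submodule F (V₁ × V₂)) = finrank F A + finrank F B := by
  let e : (A.prod B : Submodule F (V₁ × V₂)) ≃ₗ[F] (A × B) :=
    { toFun := fun w => (⟨w.1.1, w.2.1⟩, ⟨w.1.2, w.2.2⟩)
      map_add' := fun _ _ => rfl
      map_smul' := fun _ _ => rfl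
      invFun := fun p => ⟨(p.1.1, p.2.1), p.1.2, p.2.2⟩
      left_inv := fun _ => rfl
      right_inv := fun _ => rfl }
  rw [e.finrank_eq, Module.finrank_prod]

theorem ker_pair (f : Module.End F V₁) (g : Module.End F V₂) :
    finrank F (LinearMap.ker (f.prodMap g)) = finrank F (LinearMap.ker f) + finrank F (LinearMap.ker g) := by
  rw [LinearMap.ker_prodMap, finrank_prod']

end Pair

section Mul

variable {F K : Type*} [Field F] [Field K] [Algebra F K] [FiniteDimensional F K]

theorem aeval_mulLeft (w : K) (P : Polynomial F) :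
    Polynomial.aeval (LinearMap.mulLeft F w : Module.End F K) P = LinearMap.mulLeft F (Polynomial.aeval w P) := by
  have h : (LinearMap.mulLeft F w : Module.End F K) = Algebra.lmul F K w := rfl
  rw [h, Polynomial.aeval_algHom_apply]
  rfl

theorem ker_mulLeft_of_ne {w : K} (h : w ≠ 0) : finrank F (LinearMap.ker (LinearMap.mulLeft F w : Module.End F K)) = 0 := by
  rw [Submodule.finrank_eq_zero, LinearMap.ker_eq_bot']
  intro v hv
  rw [LinearMap.mulLeft_apply] at hv
  exact (mul_eq_zero.1 hv).resolve_left h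

theorem ker_mulLeft_zero : finrank F (LinearMap.ker (LinearMap.mulLeft F (0 : K) : Module.End F K)) = finrank F K := by
  have h : LinearMap.ker (LinearMap.mulLeft F (0 : K) : Module.End F K) = ⊤ := by
    rw [eq_top_iff]
    intro v _
    rw [LinearMap.mem_ker, LinearMap.mulLeft_apply, zero_mul]
  rw [h, finrank_top]

theorem mulLeft_pow (w : K) (n : ℕ) : (LinearMap.mulLeft F w : Module.End F K) ^ n = LinearMap.mulLeft F (w ^ n) :=
  LinearMap.pow_mulLeft F K w n

theorem mulLeft_eq_one {w : K} : (LinearMap.mulLeft F w : Module.End F K) = 1 ↔ w = 1 := by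
  constructor
  · intro h
    have h1 := congrArg (fun f : Module.End F K => f 1) h
    simpa using h1
  · rintro rfl
    apply LinearMap.ext
    intro v
    simp

theorem orderOf_mulLeft (w : K) : orderOf (LinearMap.mulLeft F w : Module.End F K) = orderOf w := by
  apply Nat.dvd_antisymm
  · apply orderOf_dvd_of_pow_eq_one
    rw [mulLeft_pow, mulLeft_eq_one, pow_orderOf_eq_one]
  · apply orderOf_dvd_of_pow_eq_one
    rw [← mulLeft_eq_one (F := F), ← mulLeft_pow, pow_orderOf_eq_one]

theorem mulLeft_free {w : K} (h : w ≠ 1) : ∀ v : K, (LinearMap.mulLeft F w : Module.End F K) v = v → v = 0 := by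
  intro v hv
  rw [LinearMap.mulLeft_apply] at hv
  have h1 : (w - 1) * v = 0 := by rw [sub_mul, hv, one_mul, sub_self]
  exact (mul_eq_zero.1 h1).resolve_left (sub_ne_zero.2 h)

/-- the element `(w, w⁻¹)` on `K × K` -/
noncomputable def dg (F : Type*) {K : Type*} [Field F] [Field K] [Algebra F K] (w : K) : Module.End F (K × K) :=
  (LinearMap.mulLeft F w).prodMap (LinearMap.mulLeft F w⁻¹)

theorem dg_apply (w : K) (v : K × K) : dg F w v = (w * v.1, w⁻¹ * v.2) := rfl

theorem dg_pow (w : K) (n : ℕ) : (dg F w) ^ n = dg F (w ^ n) := by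
  rw [dg, pair_pow, mulLeft_pow, mulLeft_pow, dg, _root_.inv_pow]

theorem dg_one : dg F (1 : K) = 1 := by
  apply LinearMap.ext
  intro v
  rw [dg_apply, inv_one, one_mul, one_mul]
  rfl

theorem dg_free {w : K} (h : w ≠ 1) : ∀ v : K × K, dg F w v = v → v = 0 := by
  intro v hv
  have h1 : w * v.1 = v.1 := congrArg Prod.fst hv
  have h2 : w⁻¹ * v.2 = v.2 := congrArg Prod.snd hv
  refine Prod.ext (mulLeft_free (F := F) h _ h1) (mulLeft_free (F := F) (fun h3 => h ?_) _ h2)
  rw [← inv_inv w, h3, inv_one]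

theorem ker_dg (w : K) (P : Polynomial F) : finrank F (LinearMap.ker (Polynomial.aeval (dg F w) P)) =
    finrank F (LinearMap.ker (LinearMap.mulLeft F (Polynomial.aeval w P) : Module.End F K)) +
      finrank F (LinearMap.ker (LinearMap.mulLeft F (Polynomial.aeval w⁻¹ P) : Module.End F K)) := by
  rw [dg, aeval_pair, ker_pair, aeval_mulLeft, aeval_mulLeft]

/-- the kernel for the minimal polynomial -/
theorem ker_dg_minpoly [Finite K] (hodd : Odd (finrank F K)) {w : K} (h0 : w ≠ 0) (h2 : w * w ≠ 1) :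
    finrank F (LinearMap.ker (Polynomial.aeval (dg F w) (minpoly F w))) = finrank F K := by
  rw [ker_dg, minpoly.aeval, ker_mulLeft_zero, ker_mulLeft_of_ne, add_zero]
  intro h
  exact h2 (sq_of_root hodd h0 h)

theorem ker_dg_of_ne {w : K} {P : Polynomial F} (h1 : Polynomial.aeval w P ≠ 0) (h2 : Polynomial.aeval w⁻¹ P ≠ 0) :
    finrank F (LinearMap.ker (Polynomial.aeval (dg F w) P)) = 0 := by
  rw [ker_dg, ker_mulLeft_of_ne h1, ker_mulLeft_of_ne h2]

end Mul

end Cfsg.Agent.H383.Cov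
end

-- part: H383/Cov/PlusEl
section
/-!
# S2499: the elements of `Ω⁺_{2m}(q)` (helper383)

* `exists_A` : `neg a + neg e`, irreducible on both blocks; `exists_B` : `neg b +` trivial;
* `exists_C1` : `pos m`, `m` odd; `exists_C2` : `pos c₁ + pos c₂`; `exists_C3` : `pos c + (pos c) ^ j`.
-/

set_option autoImplicit false
set_option linter.unusedSectionVars false
set_option linter.style.haveILetI false

namespace Cfsg.Agent.H383.Cov

open Module Cfsg Cfsg.Geo QuadraticMap
open Cfsg.Agent.LieClassical.OrthCore Cfsg.Agent.LieClassical.OrthForms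
open Cfsg.Agent.H182.Sign
open Cfsg.Agent.H278.Cov (Red Ext Num Av Inc NoTwo)
open Cfsg.Agent.H689 (Ppd)
open scoped MatrixGroups Matrix

theorem num_odd {q n k M : ℕ} (hq : 2 ≤ q) (hk : 2 ≤ k) (h : Num q n k M) : Odd M := by
  by_contra hcon
  rw [Nat.not_odd_iff_even] at hcon
  have h2 : 2 ∣ M := hcon.two_dvd
  have h3 : ¬ 2 ∣ q ^ 1 - 1 := by
    intro h4
    have h5 := Nat.dvd_gcd h2 h4
    rw [h.prim 1 le_rfl (by omega)] at h5
    omega
  rw [pow_one] at h3
  have h4 : 2 ∣ q := by omega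
  have h5 : 2 ∣ q ^ k - 1 := h2.trans h.dvd
  have h6 : 2 ∣ q ^ k := dvd_pow h4 (by omega)
  have h7 : 0 < q ^ k := pow_pos (by omega) _
  omega

theorem num_dvd {q n a M : ℕ} (ha : 1 ≤ a) (h : Num q n (2 * a) M) : M ∣ q ^ a + 1 := by
  have h1 : q ^ (2 * a) - 1 = (q ^ a + 1) * (q ^ a - 1) := by
    have := Nat.sq_sub_sq (q ^ a) 1
    rw [one_pow, ← pow_mul, mul_comm a 2] at this
    exact this
  have h2 := h.dvd
  rw [h1] at h2
  exact Nat.Coprime.dvd_of_dvd_mul_right (h.prim a ha (by omega)) h2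

theorem coprime_q {q a M : ℕ} (ha : 1 ≤ a) (h : M ∣ q ^ a + 1) : M.Coprime q := by
  have h1 : (q ^ a + 1).Coprime q := by
    obtain ⟨k, rfl⟩ : ∃ k, a = k + 1 := ⟨a - 1, by omega⟩
    rw [pow_succ, Nat.coprime_mul_right_add_left, ]
    exact Nat.coprime_one_left q
  exact Nat.Coprime.coprime_dvd_left h h1

theorem exists_pow_order {G : Type*} [Monoid G] {u : G} {n N : ℕ} (hu : orderOf u = n) (hn : n ≠ 0) (hN : N ∣ n) :
    orderOf (u ^ (n / N)) = N := by
  have hN0 : N ≠ 0 := fun h => hn (by rw [h] at hN; exact zero_dvd_iff.1 hN)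
  obtain ⟨k, hk⟩ := hN
  have hk0 : k ≠ 0 := fun h => hn (by rw [hk, h, mul_zero])
  rw [orderOf_pow_of_dvd, hu]
  · rw [hk, Nat.mul_div_cancel_left _ (Nat.pos_of_ne_zero hN0), Nat.mul_div_cancel _ (Nat.pos_of_ne_zero hk0)]
  · rw [hk, Nat.mul_div_cancel_left _ (Nat.pos_of_ne_zero hN0)]
    exact hk0
  · rw [hu, hk, Nat.mul_div_cancel_left _ (Nat.pos_of_ne_zero hN0)]
    exact dvd_mul_left _ _

section

variable {F : Type} [Field F] [Fintype F]

/-- a field with a form of minus type and an isometry of order `N` given by a multiplication -/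
theorem exists_negN {k N : ℕ} (hk : k ≠ 0) (hN : N ∣ Fintype.card F ^ k + 1) :
    ∃ (L : Type) (_ : Field L) (_ : Algebra F L) (_ : Finite L) (Q : QuadraticForm F L) (u : L),
      Sg Q k (-1) ∧ finrank F L = 2 * k ∧ orderOf u = N ∧ u ≠ 0 ∧ ∀ v, Q (u * v) = Q v := by
  obtain ⟨L, _, _, _, Q, u, h1, h2, h3, h4⟩ := exists_neg F hk
  have hu0 : u ≠ 0 := by
    rintro rfl
    rw [orderOf_zero] at h3
    omega
  refine ⟨L, inferInstance, inferInstance, inferInstance, Q, u ^ ((Fintype.card F ^ k + 1) / N), h1, h2,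
    exists_pow_order h3 (by omega) hN, pow_ne_zero _ hu0, ?_⟩
  have h5 : ∀ n : ℕ, ∀ v, Q (u ^ n * v) = Q v := by
    intro n
    induction n with
    | zero => intro v; rw [pow_zero, one_mul]
    | succ n ih => intro v; rw [pow_succ, mul_assoc, ih, h4]
  exact h5 _

theorem ne_one_of_order {G : Type*} [Monoid G] {u : G} {N : ℕ} (h : orderOf u = N) (hN : N ≠ 1) : u ≠ 1 := by
  rintro rfl
  rw [orderOf_one] at h
  exact hN h.symm

theorem sg_plus (m : ℕ) : Sg (plusForm m F) m 1 := sg_plusForm m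

theorem card_ix (m : ℕ) : Fintype.card (Fin m ⊕ Fin m) = 2 * m := by
  rw [Fintype.card_sum, Fintype.card_fin]; ring

theorem numEl_of {ι : Type} [Fintype ι] [DecidableEq ι] {V L : Type} [AddCommGroup V] [Module F V] [Finite V]
    [Field L] [Algebra F L] [Finite L] {a M : ℕ} (ha : 1 ≤ a) (hM : Num (Fintype.card F) (Fintype.card ι) (2 * a) M)
    {u : L} (hu : orderOf u = M) (hL : finrank F L = 2 * a) {X : GL ι F}
    (hX : Sim X ((LinearMap.mulLeft F u : Module.End F L).prodMap (1 : Module.End F V))) : NumEl a X := by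
  have hfL : FiniteDimensional F L := Module.Finite.of_finite
  have hfV : FiniteDimensional F V := Module.Finite.of_finite
  have hq : 2 ≤ Fintype.card F := Fintype.one_lt_card
  have hd := num_dvd ha hM
  have ho := num_odd hq (by omega) hM
  have hM1 : M ≠ 1 := by
    have := hM.big
    omega
  have hoX : orderOf X = M := by
    rw [hX.orderOf_eq, ← hu, ← orderOf_mulLeft (F := F) u]
    apply Nat.dvd_antisymm
    · apply orderOf_dvd_of_pow_eq_one
      rw [pair_pow, pow_orderOf_eq_one, one_pow]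
      rfl
    · apply orderOf_dvd_of_pow_eq_one
      have h1 := pow_orderOf_eq_one ((LinearMap.mulLeft F u : Module.End F L).prodMap (1 : Module.End F V))
      rw [pair_pow] at h1
      apply LinearMap.ext
      intro v
      exact congrArg (fun f : Module.End F (L × V) => (f (v, 0)).1) h1
  refine ⟨by rw [hoX]; exact hM, ⟨?_, ?_, ?_⟩, by rw [hoX]; exact ho, ?_⟩
  · rw [hoX, Nat.card_eq_fintype_card]
    exact coprime_q ha hd
  · intro i hi hk
    rw [hoX, Nat.card_eq_fintype_card]
    exact hM.prim i hi hk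
  · rw [hX.rk, range_pair (mulLeft_free (ne_one_of_order hu hM1)), hL]
  · rw [hoX, Nat.card_eq_fintype_card]
    exact hd

theorem exists_A {m a e M N : ℕ} (hm : a + e = m) (h5 : 3 ≤ m) (ha : a ≠ 0) (he : e ≠ 0)
    (hM : Num (Fintype.card F) (2 * m) (2 * a) M) (hN : N ∣ Fintype.card F ^ e + 1) (hNo : Odd N)
    (hN1 : ∀ j, 1 ≤ j → j < 2 * e → ¬ N ∣ Fintype.card F ^ j - 1) (hc : M.Coprime N) :
    ∃ A : GL (Fin m ⊕ Fin m) F, A ∈ omegaGL ⇑(plusForm m F) ∧ (∃ i, NumEl a (A ^ i)) ∧
      Dims A {0, 2 * e, 2 * a, 2 * m} := by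
  have hq : 2 ≤ Fintype.card F := Fintype.one_lt_card
  have hMd := num_dvd (by omega) hM
  have hMo := num_odd hq (by omega) hM
  obtain ⟨L, _, _, _, Q, u, s1, s2, s3, s4, s5⟩ := exists_negN (F := F) ha hMd
  obtain ⟨L', _, _, _, Q', u', t1, t2, t3, t4, t5⟩ := exists_negN (F := F) he hN
  have hfL : FiniteDimensional F L := Module.Finite.of_finite
  have hfL' : FiniteDimensional F L' := Module.Finite.of_finite
  have hs := s1.prod t1
  rw [hm, show (-1 : ℤ) * -1 = 1 by norm_num] at hs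
  have hM1 : M ≠ 1 := by
    have := hM.big
    omega
  have hN11 : N ≠ 1 := by
    rintro rfl
    exact hN1 1 le_rfl (by omega) (one_dvd _)
  have p1 : (LinearMap.mulLeft F u : Module.End F L) ^ M = 1 := by
    rw [mulLeft_pow, mulLeft_eq_one, ← s3, pow_orderOf_eq_one]
  have p2 : (LinearMap.mulLeft F u' : Module.End F L') ^ N = 1 := by
    rw [mulLeft_pow, mulLeft_eq_one, ← t3, pow_orderOf_eq_one]
  obtain ⟨A, hA, hsim⟩ := exists_sim (sg_plus (F := F) m) (by rw [card_ix]; omega) hs
    (x := (LinearMap.mulLeft F u).prodMap (LinearMap.mulLeft F u')) (M := M * N)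
    (by
      intro v
      rw [prodForm_apply, prodForm_apply]
      change Q (u * v.1) + Q' (u' * v.2) = _
      rw [s5, t5])
    (hMo.mul hNo)
    (by
      rw [pair_pow, pow_mul, p1, one_pow, mul_comm, pow_mul, p2, one_pow]
      rfl)
  refine ⟨A, hA, ?_, ?_⟩
  · obtain ⟨j, hj1, hj2⟩ := exists_pow_left p1 p2 hc
    refine ⟨j, numEl_of (V := L') (by (clear * - ha; omega)) (by rw [card_ix]; exact hM) s3 s2 ?_⟩
    have h1 := hsim.pow j
    rw [pair_pow, hj1, hj2] at h1
    exact h1
  · apply hsim.dims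
    intro W hW
    have hcase : ∀ {K : Type} [Field K] [Algebra F K] [Finite K] {w : K} {d : ℕ}, finrank F K = d → w ≠ 0 →
        (∀ j, 1 ≤ j → j < d → ¬ orderOf w ∣ Fintype.card F ^ j - 1) →
        ∀ W : Submodule F K, (∀ v ∈ W, LinearMap.mulLeft F w v ∈ W) → finrank F W ∈ ({0, d} : Set ℕ) := by
      intro K _ _ _ w d hd h0 h W hW
      rcases irr_mul (F := F) (ζ := w) (by rw [hd, Nat.card_eq_fintype_card]; exact h) h0 hW with rfl | rfl
      · left; exact finrank_bot F K
      · right; rw [finrank_top]; exact hd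
    obtain ⟨s, hs', t, ht', hst⟩ := pair_dims p1 p2 hc (mulLeft_free (ne_one_of_order s3 hM1))
      (hcase s2 s4 (by
        intro j hj hjl hd
        rw [s3] at hd
        have h1 := hM.prim j hj hjl
        have h2 := Nat.dvd_gcd dvd_rfl hd
        rw [h1] at h2
        exact hM1 (Nat.dvd_one.1 h2)))
      (hcase t2 t4 (by rw [t3]; exact hN1)) hW
    rw [hst]
    simp only [Set.mem_insert_iff, Set.mem_singleton_iff] at hs' ht' ⊢
    (clear * - hm hs' ht'; omega)

theorem exists_B {m b f M : ℕ} (hm : b + f = m) (h5 : 3 ≤ m) (hb : b ≠ 0) (hf : f ≠ 0)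
    (hM : Num (Fintype.card F) (2 * m) (2 * b) M) :
    ∃ B : GL (Fin m ⊕ Fin m) F, B ∈ omegaGL ⇑(plusForm m F) ∧ (∃ i, NumEl b (B ^ i)) ∧
      Dims B {d | d ≤ 2 * f ∨ 2 * b ≤ d} := by
  have hq : 2 ≤ Fintype.card F := Fintype.one_lt_card
  have hMd := num_dvd (by omega) hM
  have hMo := num_odd hq (by omega) hM
  obtain ⟨L, _, _, _, Q, u, s1, s2, s3, s4, s5⟩ := exists_negN (F := F) hb hMd
  obtain ⟨L', _, _, _, Q', u', t1, t2, t3, t4, t5⟩ := exists_negN (F := F) hf (one_dvd _)
  have hfL : FiniteDimensional F L := Module.Finite.of_finite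
  have hfL' : FiniteDimensional F L' := Module.Finite.of_finite
  have hs := s1.prod t1
  rw [hm, show (-1 : ℤ) * -1 = 1 by norm_num] at hs
  have hM1 : M ≠ 1 := by
    have := hM.big
    omega
  have p1 : (LinearMap.mulLeft F u : Module.End F L) ^ M = 1 := by
    rw [mulLeft_pow, mulLeft_eq_one, ← s3, pow_orderOf_eq_one]
  have p2 : (1 : Module.End F L') ^ 1 = 1 := one_pow _
  obtain ⟨B, hB, hsim⟩ := exists_sim (sg_plus (F := F) m) (by rw [card_ix]; omega) hs
    (x := (LinearMap.mulLeft F u).prodMap 1) (M := M)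
    (by
      intro v
      rw [prodForm_apply, prodForm_apply]
      change Q (u * v.1) + Q' v.2 = _
      rw [s5])
    hMo
    (by
      rw [pair_pow, p1, one_pow]
      rfl)
  refine ⟨B, hB, ⟨1, ?_⟩, ?_⟩
  · rw [pow_one]
    exact numEl_of (V := L') (by omega) (by rw [card_ix]; exact hM) s3 s2 hsim
  · apply hsim.dims
    intro W hW
    have hcase : ∀ {K : Type} [Field K] [Algebra F K] [Finite K] {w : K} {d : ℕ}, finrank F K = d → w ≠ 0 →
        (∀ j, 1 ≤ j → j < d → ¬ orderOf w ∣ Fintype.card F ^ j - 1) →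
        ∀ W : Submodule F K, (∀ v ∈ W, LinearMap.mulLeft F w v ∈ W) → finrank F W ∈ ({0, d} : Set ℕ) := by
      intro K _ _ _ w d hd h0 h W hW
      rcases irr_mul (F := F) (ζ := w) (by rw [hd, Nat.card_eq_fintype_card]; exact h) h0 hW with rfl | rfl
      · left; exact finrank_bot F K
      · right; rw [finrank_top]; exact hd
    obtain ⟨s, hs', t, ht', hst⟩ := pair_dims (S₂ := {d | d ≤ 2 * f}) p1 p2 (Nat.coprime_one_right M)
      (mulLeft_free (ne_one_of_order s3 hM1))
      (hcase s2 s4 (by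
        intro j hj hjl hd
        rw [s3] at hd
        have h1 := hM.prim j hj hjl
        have h2 := Nat.dvd_gcd dvd_rfl hd
        rw [h1] at h2
        exact hM1 (Nat.dvd_one.1 h2)))
      (by
        intro W _
        rw [Set.mem_ofPred_eq, ← t2]
        exact Submodule.finrank_le W) hW
    rw [hst]
    simp only [Set.mem_insert_iff, Set.mem_singleton_iff, Set.mem_ofPred_eq] at hs' ht' ⊢
    omega

end

end Cfsg.Agent.H383.Cov
end

-- part: H383/Cov/PlusC
section
/-!
# S2499: the elements `C` of `Ω⁺_{2m}(q)` (helper383)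

* `exists_C1` : `pos m`, `m` odd; `exists_C2` : `pos c₁ + pos c₂`; `exists_C3` : `pos c + (pos c) ^ j`.
-/

set_option autoImplicit false
set_option linter.unusedSectionVars false
set_option linter.style.haveILetI false

namespace Cfsg.Agent.H383.Cov

open Module Cfsg Cfsg.Geo QuadraticMap
open Cfsg.Agent.LieClassical.OrthCore Cfsg.Agent.LieClassical.OrthForms
open Cfsg.Agent.H182.Sign
open Cfsg.Agent.H278.Cov (Red Ext Num Av Inc NoTwo)
open Cfsg.Agent.H689 (Ppd)
open scoped MatrixGroups Matrix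

/-- roots of the minimal polynomial -/
theorem eq_pow_of_root {F K : Type*} [Field F] [Fintype F] [Field K] [Finite K] [Algebra F K] {x y : K}
    (h : Polynomial.aeval y (minpoly F x) = 0) : ∃ i < finrank F K, y = x ^ (Fintype.card F ^ i) := by
  have hint : IsIntegral F x := IsIntegral.of_finite F x
  have hmin : minpoly F y = minpoly F x :=
    (minpoly.eq_of_irreducible_of_monic (minpoly.irreducible hint) h (minpoly.monic hint)).symm
  obtain ⟨σ, hσ⟩ := (Normal.minpoly_eq_iff_mem_orbit (F := F) (E := K) (x := y) (y := x)).1 hmin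
  obtain ⟨⟨i, hi⟩, hin⟩ := (FiniteField.bijective_frobeniusAlgEquivOfAlgebraic_pow F K).2 σ
  refine ⟨i, hi, ?_⟩
  have h1 : σ x = y := hσ
  rw [← h1, ← hin]
  change ((FiniteField.frobeniusAlgEquivOfAlgebraic F K) ^ i) x = _
  rw [AlgEquiv.coe_pow, FiniteField.coe_frobeniusAlgEquivOfAlgebraic_iterate]

section

variable {F : Type} [Field F] [Fintype F]

/-- `K × K` with a form of plus type and isometries -/
theorem exists_posN {k N : ℕ} (hk : k ≠ 0) (hN : N ∣ Fintype.card F ^ k - 1) :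
    ∃ (K : Type) (_ : Field K) (_ : Algebra F K) (_ : Finite K) (Q : QuadraticForm F (K × K)) (u : K),
      Sg Q k 1 ∧ finrank F K = k ∧ orderOf u = N ∧ u ≠ 0 ∧ ∀ (w : K) (_ : w ≠ 0) (v : K × K), Q (dg F w v) = Q v := by
  obtain ⟨K, _, _, _, Q, u, h1, h2, h3, h4⟩ := exists_pos F hk
  have hq : 2 ≤ Fintype.card F := Fintype.one_lt_card
  have hn : Fintype.card F ^ k - 1 ≠ 0 := by
    have := Nat.one_lt_pow hk (show 1 < Fintype.card F by omega)
    omega
  refine ⟨K, inferInstance, inferInstance, inferInstance, Q,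
    ((u ^ ((Fintype.card F ^ k - 1) / N) : Kˣ) : K), h1, h2, ?_, Units.ne_zero _, ?_⟩
  · rw [orderOf_units]
    exact exists_pow_order h3 hn hN
  · intro w hw v
    have h5 := h4 (Units.mk0 w hw) v
    rw [dg_apply]
    simpa using h5

theorem dg_pow_eq_one {K : Type*} [Field K] [Algebra F K] [Finite K] {u : K} {N : ℕ} (h : orderOf u = N) :
    (dg F u) ^ N = 1 := by
  rw [dg_pow, ← h, pow_orderOf_eq_one, dg_one]

theorem dims_dg {K : Type} [Field K] [Algebra F K] [Finite K] {u : K} {c r : ℕ} (hu : orderOf u = r)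
    (hr : Ppd (Fintype.card F) c r) (hc : 1 ≤ c) {W : Submodule F (K × K)} (hW : ∀ w ∈ W, dg F u w ∈ W) :
    c ∣ finrank F W := by
  have hf : FiniteDimensional F K := Module.Finite.of_finite
  refine dvd_of_free (x := dg F u) hr.prime (dg_pow_eq_one hu) hc ?_ ?_ hW fun w _ => ?_
  · rw [Nat.card_eq_fintype_card]; exact (hr.iff c).2 dvd_rfl
  · intro i hi hic hd
    rw [Nat.card_eq_fintype_card] at hd
    exact absurd (Nat.le_of_dvd hi ((hr.iff i).1 hd)) (by omega)
  · exact dg_free (ne_one_of_order hu hr.prime.one_lt.ne') w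

theorem sq_ne_one {G : Type*} [Monoid G] {u : G} {N : ℕ} (h : orderOf u = N) (hN : Odd N) (h1 : N ≠ 1) :
    u * u ≠ 1 := by
  intro h2
  rw [← pow_two] at h2
  have h3 := orderOf_dvd_of_pow_eq_one h2
  rw [h] at h3
  rcases (Nat.dvd_prime Nat.prime_two).1 h3 with h4 | h4
  · exact h1 h4
  · rw [h4] at hN
    exact absurd hN (by decide)

theorem ppd_odd {q k r : ℕ} (h : Ppd q k r) (hk : 3 ≤ k) : Odd r :=
  (h.prime.eq_two_or_odd').resolve_left (by have := h.two_lt hk; omega)

theorem exists_C1 {m r : ℕ} (hm : Odd m) (h3 : 3 ≤ m) (hr : Ppd (Fintype.card F) m r) :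
    ∃ C : GL (Fin m ⊕ Fin m) F, C ∈ omegaGL ⇑(plusForm m F) ∧ Odd (orderOf C) ∧
      (∃ P : Polynomial F, Odd (finrank F (LinearMap.ker (Matrix.toLin'
        (Polynomial.aeval (C : Matrix (Fin m ⊕ Fin m) (Fin m ⊕ Fin m) F) P))))) ∧
      Dims C {d | m ∣ d} := by
  have hr3 := hr.two_lt h3
  have hro : Odd r := ppd_odd hr h3
  obtain ⟨K, _, _, _, Q, u, s1, s2, s3, s4, s5⟩ := exists_posN (F := F) (k := m) (by omega)
    ((hr.iff m).2 dvd_rfl)
  have hf : FiniteDimensional F K := Module.Finite.of_finite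
  obtain ⟨C, hC, hsim⟩ := exists_sim (sg_plus (F := F) m) (by rw [card_ix]; omega) s1
    (x := dg F u) (M := r) (s5 u s4) hro (dg_pow_eq_one s3)
  refine ⟨C, hC, ?_, ⟨minpoly F u, ?_⟩, ?_⟩
  · refine Odd.of_dvd_nat hro ?_
    rw [hsim.orderOf_eq]
    exact orderOf_dvd_of_pow_eq_one (dg_pow_eq_one s3)
  · rw [hsim.ker, ker_dg_minpoly (by rw [s2]; exact hm) s4 (sq_ne_one s3 hro (by omega)), s2]
    exact hm
  · apply hsim.dims
    intro W hW
    exact dims_dg s3 hr (by omega) hW

theorem minpoly_dvd_pow {K K' : Type*} [Field K] [Algebra F K] [Field K'] [Algebra F K'] {u : K} {v : K'} {n : ℕ}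
    (hu : u ^ n = 1) (hv : Polynomial.aeval v (minpoly F u) = 0) : v ^ n = 1 := by
  have h1 : minpoly F u ∣ Polynomial.X ^ n - 1 := by
    apply minpoly.dvd
    rw [map_sub, map_pow, Polynomial.aeval_X, map_one, hu, sub_self]
  obtain ⟨R, hR⟩ := h1
  have h2 := congrArg (Polynomial.aeval v) hR
  rw [map_mul, hv, zero_mul, map_sub, map_pow, Polynomial.aeval_X, map_one] at h2
  exact sub_eq_zero.1 h2

theorem exists_C2 {m c₁ c₂ r₁ r₂ : ℕ} (hm : c₁ + c₂ = m) (h1 : 3 ≤ c₁) (h2 : 3 ≤ c₂) (ho : Odd c₁)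
    (hr₁ : Ppd (Fintype.card F) c₁ r₁) (hr₂ : Ppd (Fintype.card F) c₂ r₂) (hne : c₁ ≠ c₂) :
    ∃ C : GL (Fin m ⊕ Fin m) F, C ∈ omegaGL ⇑(plusForm m F) ∧ Odd (orderOf C) ∧
      (∃ P : Polynomial F, Odd (finrank F (LinearMap.ker (Matrix.toLin'
        (Polynomial.aeval (C : Matrix (Fin m ⊕ Fin m) (Fin m ⊕ Fin m) F) P))))) ∧
      Dims C {d | ∃ s t : ℕ, s ≤ 2 ∧ t ≤ 2 ∧ d = c₁ * s + c₂ * t} := by
  have hne' : r₁ ≠ r₂ := by
    rintro rfl
    apply hne
    exact Nat.dvd_antisymm ((hr₁.iff c₂).1 ((hr₂.iff c₂).2 dvd_rfl)) ((hr₂.iff c₁).1 ((hr₁.iff c₁).2 dvd_rfl))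
  have hco : r₁.Coprime r₂ := (Nat.coprime_primes hr₁.prime hr₂.prime).2 hne'
  have hro₁ : Odd r₁ := ppd_odd hr₁ h1
  have hro₂ : Odd r₂ := ppd_odd hr₂ h2
  obtain ⟨K, _, _, _, Q, u, s1, s2, s3, s4, s5⟩ := exists_posN (F := F) (k := c₁) (by omega)
    ((hr₁.iff c₁).2 dvd_rfl)
  obtain ⟨K', _, _, _, Q', u', t1, t2, t3, t4, t5⟩ := exists_posN (F := F) (k := c₂) (by omega)
    ((hr₂.iff c₂).2 dvd_rfl)
  have hf : FiniteDimensional F K := Module.Finite.of_finite
  have hf' : FiniteDimensional F K' := Module.Finite.of_finite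
  have hs := s1.prod t1
  rw [hm, show (1 : ℤ) * 1 = 1 by norm_num] at hs
  have p1 := dg_pow_eq_one (F := F) s3
  have p2 := dg_pow_eq_one (F := F) t3
  have hpow : ((dg F u).prodMap (dg F u') : Module.End F ((K × K) × (K' × K'))) ^ (r₁ * r₂) = 1 := by
    rw [pair_pow, pow_mul, p1, one_pow, mul_comm, pow_mul, p2, one_pow]
    rfl
  obtain ⟨C, hC, hsim⟩ := exists_sim (sg_plus (F := F) m) (by rw [card_ix]; omega) hs
    (x := (dg F u).prodMap (dg F u')) (M := r₁ * r₂)
    (by
      intro v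
      rw [prodForm_apply, prodForm_apply]
      change Q (dg F u v.1) + Q' (dg F u' v.2) = _
      rw [s5 u s4, t5 u' t4])
    (hro₁.mul hro₂) hpow
  refine ⟨C, hC, ?_, ⟨minpoly F u, ?_⟩, ?_⟩
  · refine Odd.of_dvd_nat (hro₁.mul hro₂) ?_
    rw [hsim.orderOf_eq]
    exact orderOf_dvd_of_pow_eq_one hpow
  · rw [hsim.ker, aeval_pair, ker_pair, ker_dg_minpoly (by rw [s2]; exact ho) s4
      (sq_ne_one s3 hro₁ hr₁.prime.one_lt.ne'), s2]
    have hu : u ^ r₁ = 1 := by rw [← s3]; exact pow_orderOf_eq_one u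
    have key : u' ^ r₁ ≠ 1 := by
      intro h
      have h3 := orderOf_dvd_of_pow_eq_one h
      rw [t3] at h3
      have h4 := Nat.dvd_gcd h3 dvd_rfl
      rw [hco] at h4
      exact hr₂.prime.one_lt.ne' (Nat.dvd_one.1 h4)
    rw [ker_dg_of_ne, add_zero]
    · exact ho
    · exact fun h => key (minpoly_dvd_pow hu h)
    · intro h
      apply key
      have h3 := minpoly_dvd_pow hu h
      rw [_root_.inv_pow] at h3
      exact inv_eq_one.1 h3
  · apply hsim.dims
    intro W hW
    obtain ⟨s, hs', t, ht', hst⟩ := pair_dims (S₁ := {d | ∃ s : ℕ, s ≤ 2 ∧ d = c₁ * s})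
      (S₂ := {d | ∃ s : ℕ, s ≤ 2 ∧ d = c₂ * s}) p1 p2 hco
      (dg_free (ne_one_of_order s3 hr₁.prime.one_lt.ne'))
      (by
        intro W hW
        obtain ⟨s, hs⟩ := dims_dg s3 hr₁ (by omega) hW
        refine ⟨s, ?_, hs⟩
        have h3 := Submodule.finrank_le W
        rw [Module.finrank_prod, s2, hs] at h3
        exact Nat.le_of_mul_le_mul_left (by omega : c₁ * s ≤ c₁ * 2) (by omega))
      (by
        intro W hW
        obtain ⟨s, hs⟩ := dims_dg t3 hr₂ (by omega) hW
        refine ⟨s, ?_, hs⟩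
        have h3 := Submodule.finrank_le W
        rw [Module.finrank_prod, t2, hs] at h3
        exact Nat.le_of_mul_le_mul_left (by omega : c₂ * s ≤ c₂ * 2) (by omega)) hW
    obtain ⟨s', h3, h4⟩ := hs'
    obtain ⟨t', h5, h6⟩ := ht'
    exact ⟨s', t', h3, h5, by rw [hst, h4, h6]⟩

theorem exists_C3 {m c r N j : ℕ} (hm : c + c = m) (h1 : 3 ≤ c) (ho : Odd c) (hr : Ppd (Fintype.card F) c r)
    (hN : N ∣ Fintype.card F ^ c - 1) (hNo : Odd N) (hrN : r ∣ N) (hj : ¬ r ∣ j)
    (hn1 : ∀ i < c, ¬ ((Fintype.card F ^ i : ℕ) ≡ j [MOD N])) (hn2 : ∀ i < c, ¬ N ∣ Fintype.card F ^ i + j) :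
    ∃ C : GL (Fin m ⊕ Fin m) F, C ∈ omegaGL ⇑(plusForm m F) ∧ Odd (orderOf C) ∧
      (∃ P : Polynomial F, Odd (finrank F (LinearMap.ker (Matrix.toLin'
        (Polynomial.aeval (C : Matrix (Fin m ⊕ Fin m) (Fin m ⊕ Fin m) F) P))))) ∧
      Dims C {d | c ∣ d} := by
  obtain ⟨K, _, _, _, Q, u, s1, s2, s3, s4, s5⟩ := exists_posN (F := F) (k := c) (by omega) hN
  have hf : FiniteDimensional F K := Module.Finite.of_finite
  have hs := s1.prod s1
  rw [hm, show (1 : ℤ) * 1 = 1 by norm_num] at hs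
  have huN : u ^ N = 1 := by rw [← s3]; exact pow_orderOf_eq_one u
  have p1 := dg_pow_eq_one (F := F) s3
  have p2 : (dg F (u ^ j)) ^ N = 1 := by
    rw [dg_pow, ← pow_mul, mul_comm, pow_mul, huN, one_pow, dg_one]
  have hpow : ((dg F u).prodMap (dg F (u ^ j)) : Module.End F ((K × K) × (K × K))) ^ N = 1 := by
    rw [pair_pow, p1, p2]
    rfl
  have hN0 : N ≠ 0 := fun h => by rw [h] at hNo; exact absurd hNo (by decide)
  have hN1 : N ≠ 1 := by
    intro h
    rw [h] at hrN
    exact hr.prime.one_lt.ne' (Nat.dvd_one.1 hrN)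
  obtain ⟨C, hC, hsim⟩ := exists_sim (sg_plus (F := F) m) (by rw [card_ix]; omega) hs
    (x := (dg F u).prodMap (dg F (u ^ j))) (M := N)
    (by
      intro v
      rw [prodForm_apply, prodForm_apply]
      change Q (dg F u v.1) + Q (dg F (u ^ j) v.2) = _
      rw [s5 u s4, s5 _ (pow_ne_zero _ s4)])
    hNo hpow
  refine ⟨C, hC, ?_, ⟨minpoly F u, ?_⟩, ?_⟩
  · refine Odd.of_dvd_nat hNo ?_
    rw [hsim.orderOf_eq]
    exact orderOf_dvd_of_pow_eq_one hpow
  · rw [hsim.ker, aeval_pair, ker_pair, ker_dg_minpoly (by rw [s2]; exact ho) s4 (sq_ne_one s3 hNo hN1), s2]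
    rw [ker_dg_of_ne, add_zero]
    · exact ho
    · intro h
      obtain ⟨i, hi, hu⟩ := eq_pow_of_root h
      rw [s2] at hi
      apply hn1 i hi
      have hu' : (Units.mk0 u s4) ^ j = (Units.mk0 u s4) ^ (Fintype.card F ^ i) := Units.ext (by simpa only [_root_.Units.val_pow_eq_pow_val, _root_.Units.val_mk0] using hu)
      have h3 := pow_inj_mod.1 hu'
      rw [← orderOf_units, Units.val_mk0, s3] at h3
      exact h3.symm
    · intro h
      obtain ⟨i, hi, hu⟩ := eq_pow_of_root h
      rw [s2] at hi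
      apply hn2 i hi
      rw [← s3]
      apply orderOf_dvd_of_pow_eq_one
      rw [pow_add, ← hu]
      exact inv_mul_cancel₀ (pow_ne_zero _ s4)
  · apply hsim.dims
    intro W hW
    obtain ⟨k, hk⟩ := hrN
    have hk0 : k ≠ 0 := fun h => hN0 (by rw [hk, h, mul_zero])
    have hko : orderOf (u ^ k) = r := by
      rw [orderOf_pow_of_dvd hk0 (by rw [s3, hk]; exact dvd_mul_left _ _), s3, hk,
        Nat.mul_div_cancel _ (Nat.pos_of_ne_zero hk0)]
    have hW' := inv_pow hW k
    rw [pair_pow, dg_pow, dg_pow] at hW'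
    refine dvd_of_free (x := (dg F (u ^ k)).prodMap (dg F ((u ^ j) ^ k))) hr.prime ?_ (by omega) ?_ ?_ hW' ?_
    · have h3 : ((u ^ j) ^ k) ^ r = 1 := by
        rw [← pow_mul, ← pow_mul, show j * (k * r) = N * j by rw [hk]; ring, pow_mul, huN, one_pow]
      rw [pair_pow, dg_pow_eq_one hko, dg_pow, h3, dg_one]
      rfl
    · rw [Nat.card_eq_fintype_card]; exact (hr.iff c).2 dvd_rfl
    · intro i hi hic hd
      rw [Nat.card_eq_fintype_card] at hd
      exact absurd (Nat.le_of_dvd hi ((hr.iff i).1 hd)) (by omega)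
    · intro w _ hw
      have e1 : dg F (u ^ k) w.1 = w.1 := congrArg Prod.fst hw
      have e2 : dg F ((u ^ j) ^ k) w.2 = w.2 := congrArg Prod.snd hw
      refine Prod.ext (dg_free (ne_one_of_order hko hr.prime.one_lt.ne') _ e1) (dg_free ?_ _ e2)
      intro h
      rw [← pow_mul, mul_comm, pow_mul] at h
      have h3 := orderOf_dvd_of_pow_eq_one h
      rw [hko] at h3
      exact hj h3

end

end Cfsg.Agent.H383.Cov
end

private theorem dce_8841f1b4949e : _root_.True := by
  try have : _root_.True := by simp only [_root_.Cfsg.Agent.H383.Cov.dg.eq_1]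
  exact _root_.True.intro
end
end
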